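import Groth.Agent.Cochar26.Quot

/-! Quotients of tori by subgroups of multiplicative type. -/

set_option autoImplicit false
set_option backward.isDefEq.respectTransparency.types false
set_option linter.style.haveILetI false

universe u

open CategoryTheory CategoryTheory.Limits MonoidalCategory CartesianMonoidalCategory MonObj AlgebraicGeometry

noncomputable section

namespace Groth.Agent.Cochar26

open SGA3cLib

variable {S : Scheme.{u}}

theorem conj_hiff {G G' H Q : Over S} [GrpObj G] [GrpObj G'] [GrpObj H] (e : G ≅ G') [IsMonHom e.inv] (i : H ⟶ G)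
    (q : G ⟶ Q) (hiff : ∀ (X : Over S) (a b : X ⟶ G), a ≫ q = b ≫ q ↔ ∃ h : X ⟶ H, b = a * (h ≫ i))
    (X : Over S) (a b : X ⟶ G') :
    a ≫ e.inv ≫ q = b ≫ e.inv ≫ q ↔ ∃ h : X ⟶ H, b = a * (h ≫ i ≫ e.hom) := by
  rw [← Category.assoc, ← Category.assoc, hiff]
  refine exists_congr fun h => ?_
  rw [← cancel_mono e.inv (g := b) (h := a * (h ≫ i ≫ e.hom)), MonObj.mul_comp a _ e.inv]
  simp

/-- Over an open on which the torus splits, the quotient is split near every point. -/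
theorem exists_quotient_split_near {T H Q : Over S} [GrpObj T] [GrpObj H] [GrpObj Q] (i : H ⟶ T) [IsMonHom i] [Mono i]
    (hH : SGA3x.IsMultTypeFT H) (q : T ⟶ Q) [IsMonHom q] (hq : RedSub.IsQuotient i q) {S' : Scheme.{u}} (f : S' ⟶ S)
    {V : S'.Opens} (r : ℕ) (hV : Red.IsSplitTorusWith (Fin r → ℤ) (Red.bc (V.ι ≫ f) T)) (s : S') (hs : s ∈ V) :
    ∃ W : S'.Opens, s ∈ W ∧ ∃ r' : ℕ, r' ≤ r ∧ Red.IsSplitTorusWith (Fin r' → ℤ) (Red.bc (W.ι ≫ f) Q) := by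
  obtain ⟨e₀⟩ := hV
  let g : (V : Scheme.{u}) ⟶ S := V.ι ≫ f
  let e : Red.bc g T ≅ Red.DS (V : Scheme.{u}) (Fin r → ℤ) := (Grp.forget _).mapIso e₀
  haveI : IsMonHom e.inv := e₀.inv.hom.isMonHom_hom
  haveI : IsMonHom e.hom := e₀.hom.hom.isMonHom_hom
  obtain ⟨hqg, hiffg⟩ := bc_data g i q (RedQuotLib.IsFppfCov.of_isQuotient hq)
    (fun X a b => RedQuotLib.comp_eq_iff hq a b)
  haveI : Mono ((Over.pullback g).map i) := Functor.map_mono _ _
  haveI : IsMonHom ((Over.pullback g).map i) := inferInstance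
  haveI : IsMonHom ((Over.pullback g).map q) := inferInstance
  obtain ⟨U, L, hsU, -, ⟨d⟩⟩ := exists_quotient_local (SGA3cLib.CentralDescent.isMultTypeFT_bc g H hH)
    ((Over.pullback g).map i ≫ e.hom) (e.inv ≫ (Over.pullback g).map q)
    ((RedQuotLib.IsFppfCov.of_isIso e.inv).comp hqg) (fun X a b => conj_hiff e _ _ hiffg X a b)
    (⟨s, hs⟩ : (V : Scheme.{u}))
  obtain ⟨r', hr', ⟨d'⟩⟩ := exists_split_DS (U : Scheme.{u}) L
  refine ⟨V.ι ''ᵁ U, ⟨⟨s, hs⟩, hsU, rfl⟩, r', hr', ?_⟩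
  let α := GrpBC.bcCongr g U.ι (U.ι ≫ g) rfl
  obtain ⟨hα₁, hα₂⟩ := GrpBC.isMonHom_app α Q
  let a : Red.bc U.ι (Red.bc g Q) ≅ Red.bc (U.ι ≫ g) Q := α.app Q
  haveI : IsMonHom a.hom := hα₁
  obtain ⟨j, hj, -⟩ := GrpBC.nonempty_iso_restrict (U.ι ≫ g) (V.ι.isoImage U).inv ((V.ι ''ᵁ U).ι ≫ f) (by
    rw [show U.ι ≫ g = (U.ι ≫ V.ι) ≫ f by simp [g], ← Scheme.Hom.isoImage_hom_ι, Category.assoc,
      Iso.inv_hom_id_assoc]) Q ((Grp.mkIso' a).symm ≪≫ d ≪≫ d')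
  haveI := hj
  exact ⟨Grp.mkIso' j⟩

end Groth.Agent.Cochar26
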