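import Groth.Agent.Misc15.ClosedLocal
import Groth.Agent.SGA3cLib.Transporter
import Groth.Agent.SGA3cLib.FpqcEpi
import Groth.Agent.SGA3cLib.BCPoints
import Mathlib.AlgebraicGeometry.Restrict

/-! Images of homomorphisms of group schemes that are closed subgroups Zariski-locally on the base glue. -/

set_option autoImplicit false
set_option backward.isDefEq.respectTransparency.types false
set_option linter.style.haveILetI false

universe u

open CategoryTheory CategoryTheory.Limits MonoidalCategory CartesianMonoidalCategory MonObj AlgebraicGeometry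

noncomputable section

namespace Groth.Agent.Cochar26

open SGA3cLib

variable {S : Scheme.{u}} {E G : Over S}

theorem hasCovLift_iso {X Y : Scheme.{u}} (e : X ⟶ Y) [IsIso e] : HasCovLift e :=
  ⟨X, e, 𝟙 X, Category.id_comp e, IsFpqcCov.of_forall e fun V hV =>
    ⟨e ⁻¹ᵁ V, e.isCompact_preimage hV.isCompact, Set.image_preimage_eq _ e.homeomorph.surjective⟩⟩

/-- A point of the target lifts to the source locally for the fpqc topology. -/
def LocLift (u : E ⟶ G) (T : Scheme.{u}) (x : T ⟶ G.left) : Prop :=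
  ∀ t : T, ∃ V : T.Opens, t ∈ V ∧ ∃ (T' : Scheme.{u}) (π : T' ⟶ (V : Scheme.{u})),
    HasCovLift π ∧ ∃ y : T' ⟶ E.left, y ≫ u.left = π ≫ V.ι ≫ x

variable {u : E ⟶ G}

theorem locLift_comp {T T' : Scheme.{u}} (g : T' ⟶ T) (x : T ⟶ G.left) (h : LocLift u T x) :
    LocLift u T' (g ≫ x) := fun t => by
  obtain ⟨V, hV, T₁, π, hπ, y, hy⟩ := h (g t)
  let g' : (g ⁻¹ᵁ V : Scheme.{u}) ⟶ (V : Scheme.{u}) := g.resLE V (g ⁻¹ᵁ V) le_rfl
  refine ⟨g ⁻¹ᵁ V, hV, pullback π g', pullback.snd π g', hπ.of_isPullback (IsPullback.of_hasPullback π g'),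
    pullback.fst π g' ≫ y, ?_⟩
  rw [Category.assoc, hy, pullback.condition_assoc, Scheme.Hom.resLE_comp_ι_assoc]

theorem locLift_of_cover {T : Scheme.{u}} (x : T ⟶ G.left) (𝒱 : Scheme.OpenCover.{u} T)
    (h : ∀ i, LocLift u _ (𝒱.f i ≫ x)) : LocLift u T x := fun t => by
  obtain ⟨i, z, rfl⟩ := 𝒱.exists_eq t
  obtain ⟨V, hV, T₁, π, hπ, y, hy⟩ := h i z
  refine ⟨𝒱.f i ''ᵁ V, ⟨z, hV, rfl⟩, T₁, π ≫ ((𝒱.f i).isoImage V).hom, hπ.comp (hasCovLift_iso _), y, ?_⟩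
  rw [hy, Category.assoc, Scheme.Hom.isoImage_hom_ι_assoc]

theorem locLift_left {T : Scheme.{u}} (y : T ⟶ E.left) : LocLift u T (y ≫ u.left) := fun _ =>
  ⟨⊤, trivial, _, 𝟙 _, hasCovLift_iso _, (⊤ : T.Opens).ι ≫ y, by rw [Category.id_comp, Category.assoc]⟩

theorem locLift_mul [GrpObj E] [GrpObj G] [IsMonHom u] {X : Over S} (a b : X ⟶ G) (ha : LocLift u X.left a.left)
    (hb : LocLift u X.left b.left) : LocLift u X.left (a * b⁻¹).left := fun t => by
  obtain ⟨V₁, hV₁, T₁, π₁, hπ₁, y₁, hy₁⟩ := ha t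
  obtain ⟨V₂, hV₂, T₂, π₂, hπ₂, y₂, hy₂⟩ := hb t
  let r₁ : ((V₁ ⊓ V₂ : X.left.Opens) : Scheme.{u}) ⟶ V₁ := X.left.homOfLE inf_le_left
  let r₂ : ((V₁ ⊓ V₂ : X.left.Opens) : Scheme.{u}) ⟶ V₂ := X.left.homOfLE inf_le_right
  let q₁ := pullback.snd π₁ r₁
  let q₂ := pullback.snd π₂ r₂
  have hq₁ : HasCovLift q₁ := hπ₁.of_isPullback (IsPullback.of_hasPullback π₁ r₁)
  have hq₂ : HasCovLift q₂ := hπ₂.of_isPullback (IsPullback.of_hasPullback π₂ r₂)
  let π : pullback q₁ q₂ ⟶ ((V₁ ⊓ V₂ : X.left.Opens) : Scheme.{u}) := pullback.fst q₁ q₂ ≫ q₁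
  have hπ : HasCovLift π :=
    (hq₂.of_isPullback (IsPullback.of_hasPullback q₁ q₂).flip).comp hq₁
  let X' : Over S := Over.mk (π ≫ (V₁ ⊓ V₂ : X.left.Opens).ι ≫ X.hom)
  let r : X' ⟶ X := Over.homMk (π ≫ (V₁ ⊓ V₂ : X.left.Opens).ι) (Category.assoc _ _ _)
  let w₁ : pullback q₁ q₂ ⟶ E.left := pullback.fst q₁ q₂ ≫ pullback.fst π₁ r₁ ≫ y₁
  let w₂ : pullback q₁ q₂ ⟶ E.left := pullback.snd q₁ q₂ ≫ pullback.fst π₂ r₂ ≫ y₂
  have hw₁ : w₁ ≫ u.left = r.left ≫ a.left := by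
    show w₁ ≫ u.left = (π ≫ (V₁ ⊓ V₂ : X.left.Opens).ι) ≫ a.left
    simp only [w₁, π, q₁, r₁, Category.assoc, hy₁, pullback.condition_assoc, Scheme.homOfLE_ι_assoc]
  have hw₂ : w₂ ≫ u.left = r.left ≫ b.left := by
    show w₂ ≫ u.left = (π ≫ (V₁ ⊓ V₂ : X.left.Opens).ι) ≫ b.left
    have hc : pullback.fst q₁ q₂ ≫ q₁ = pullback.snd q₁ q₂ ≫ q₂ := pullback.condition
    simp only [w₂, π, q₂, r₂, hc, Category.assoc, hy₂, pullback.condition_assoc, Scheme.homOfLE_ι_assoc]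
  let e₁ : X' ⟶ E := Over.homMk w₁ (by
    rw [← Over.w u, reassoc_of% hw₁, Over.w a]; exact Over.w r)
  let e₂ : X' ⟶ E := Over.homMk w₂ (by
    rw [← Over.w u, reassoc_of% hw₂, Over.w b]; exact Over.w r)
  have h₁ : e₁ ≫ u = r ≫ a := Over.OverMorphism.ext hw₁
  have h₂ : e₂ ≫ u = r ≫ b := Over.OverMorphism.ext hw₂
  have h₃ : (e₁ * e₂⁻¹) ≫ u = r ≫ (a * b⁻¹) := by
    rw [MonObj.mul_comp, GrpObj.inv_comp, h₁, h₂, MonObj.comp_mul, GrpObj.comp_inv]
  exact ⟨V₁ ⊓ V₂, ⟨hV₁, hV₂⟩, _, π, hπ, (e₁ * e₂⁻¹).left,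
    (congrArg CommaMorphism.left h₃).trans (Category.assoc _ _ _)⟩

theorem locLift_one [GrpObj E] [GrpObj G] [IsMonHom u] (X : Over S) : LocLift u X.left (1 : X ⟶ G).left := by
  rw [← MonObj.one_comp (X := X) u]
  exact locLift_left _

theorem locLift_iff_factor {W : S.Opens} {Q₀ : Over (W : Scheme.{u})} (p : Red.bc W.ι E ⟶ Q₀)
    (j : Q₀ ⟶ Red.bc W.ι G) [Mono j.left] (hp : HasCovLift p.left) (hpj : p ≫ j = (Over.pullback W.ι).map u)
    {T : Scheme.{u}} (x' : T ⟶ (Red.bc W.ι G).left) :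
    LocLift u T (x' ≫ pullback.fst G.hom W.ι) ↔ ∃ z : T ⟶ Q₀.left, z ≫ j.left = x' := by
  have hfst : p.left ≫ j.left ≫ pullback.fst G.hom W.ι = pullback.fst E.hom W.ι ≫ u.left := by
    rw [← Category.assoc, ← Over.comp_left, hpj]
    exact pullback.lift_fst _ _ _
  haveI : Mono (pullback.fst G.hom W.ι) := inferInstance
  constructor
  · intro h
    have hloc : ∀ t : T, ∃ V : T.Opens, t ∈ V ∧ ∃ z : (V : Scheme.{u}) ⟶ Q₀.left, z ≫ j.left = V.ι ≫ x' := by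
      intro t
      obtain ⟨V, hV, T', π, hπ, y, hy⟩ := h t
      refine ⟨V, hV, ?_⟩
      let y₁ : T' ⟶ (Red.bc W.ι E).left := pullback.lift y (π ≫ V.ι ≫ x' ≫ pullback.snd G.hom W.ι) (by
        rw [← Over.w u, reassoc_of% hy]
        simp only [Category.assoc]
        rw [pullback.condition])
      have hy₁ : (y₁ ≫ p.left) ≫ j.left = π ≫ V.ι ≫ x' := by
        rw [← cancel_mono (pullback.fst G.hom W.ι)]
        simp only [Category.assoc]
        rw [hfst, ← Category.assoc]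
        erw [pullback.lift_fst]
        rw [hy]
      obtain ⟨z, hz⟩ := hπ.exists_desc (y₁ ≫ p.left) (fun a b hab => by
        rw [← cancel_mono j.left, Category.assoc, hy₁, Category.assoc, hy₁, reassoc_of% hab])
      haveI := hπ.epi
      exact ⟨z, by rw [← cancel_epi π, reassoc_of% hz, ← hy₁, Category.assoc]⟩
    choose V hV z hz using hloc
    let 𝒱 := T.openCoverOfIsOpenCover V (TopologicalSpace.IsOpenCover.mk
      (eq_top_iff.2 fun x _ => TopologicalSpace.Opens.mem_iSup.2 ⟨x, hV x⟩))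
    refine ⟨Scheme.Cover.glueMorphisms 𝒱 z fun a b => ?_, Scheme.Cover.hom_ext 𝒱 _ _ fun a => ?_⟩
    · rw [← cancel_mono j.left]
      refine (Category.assoc _ _ _).trans (((congrArg (pullback.fst _ _ ≫ ·) (hz a)).trans ?_).trans
        ((congrArg (pullback.snd _ _ ≫ ·) (hz b)).symm.trans (Category.assoc _ _ _).symm))
      exact pullback.condition_assoc _
    · rw [← Category.assoc, Scheme.Cover.ι_glueMorphisms]
      exact hz a
  · rintro ⟨z, rfl⟩ t
    let q := pullback.fst ((⊤ : T.Opens).ι ≫ z) p.left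
    refine ⟨⊤, trivial, _, q, hp.of_isPullback (IsPullback.of_hasPullback _ p.left).flip,
      pullback.snd _ _ ≫ pullback.fst E.hom W.ι, ?_⟩
    rw [Category.assoc, ← hfst, ← pullback.condition_assoc]
    simp only [q, Category.assoc]

/-- The image of a homomorphism which, Zariski-locally on the base, is a closed subgroup covered by the source is a
closed subgroup. -/
theorem exists_image [GrpObj E] [GrpObj G] [IsMonHom u]
    (hloc : ∀ s : S, ∃ (W : S.Opens) (Q₀ : Over (W : Scheme.{u})) (p : Red.bc W.ι E ⟶ Q₀) (j : Q₀ ⟶ Red.bc W.ι G),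
      s ∈ W ∧ IsClosedImmersion j.left ∧ HasCovLift p.left ∧ p ≫ j = (Over.pullback W.ι).map u) :
    ∃ (Q : Over S) (_ : GrpObj Q) (j : Q ⟶ G), IsMonHom j ∧ IsClosedImmersion j.left ∧
      (∃ g : E ⟶ Q, g ≫ j = u) ∧
      ∀ (W : S.Opens) (Q₀ : Over (W : Scheme.{u})) [GrpObj Q₀] (p : Red.bc W.ι E ⟶ Q₀) (j₀ : Q₀ ⟶ Red.bc W.ι G)
        [IsMonHom j₀], IsClosedImmersion j₀.left → HasCovLift p.left → p ≫ j₀ = (Over.pullback W.ι).map u →
          Nonempty (Grp.mk (Red.bc W.ι Q) ≅ Grp.mk Q₀) := by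
  choose W Q₀ p j hsW hj hp hpj using hloc
  obtain ⟨Z, n₀, hn₀, hn⟩ := Misc15.ClosedLocal.exists_closedImmersion G.left (LocLift u)
    (fun T T' t x h => locLift_comp t x h) (fun T x 𝒱 h => locLift_of_cover x 𝒱 h) (fun s : S => G.hom ⁻¹ᵁ W s)
    (TopologicalSpace.IsOpenCover.mk (eq_top_iff.2 fun x _ =>
      TopologicalSpace.Opens.mem_iSup.2 ⟨G.hom x, hsW _⟩)) (fun s => by
    haveI := hj s
    let e := pullbackRestrictIsoRestrict G.hom (W s)
    refine ⟨_, (j s).left ≫ e.hom, inferInstance, fun T x => ?_⟩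
    have h1 : x ≫ (G.hom ⁻¹ᵁ W s).ι = (x ≫ e.inv) ≫ pullback.fst G.hom (W s).ι := by
      rw [← pullbackRestrictIsoRestrict_hom_ι, Category.assoc, Iso.inv_hom_id_assoc]
    rw [h1, locLift_iff_factor (p s) (j s) (hp s) (hpj s)]
    refine exists_congr fun z => ⟨fun h => by rw [reassoc_of% h, Iso.inv_hom_id, Category.comp_id], fun h => ?_⟩
    rw [← h, Category.assoc, Category.assoc, Iso.hom_inv_id, Category.comp_id])
  haveI := hn₀
  let Q : Over S := Over.mk (n₀ ≫ G.hom)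
  let n : Q ⟶ G := Over.homMk n₀ rfl
  haveI : IsClosedImmersion n.left := hn₀
  haveI : Mono n := Over.mono_of_mono_left _
  have hmem : ∀ {T : Over S} (a : T ⟶ G), LocLift u T.left a.left ↔ ∃ z : T ⟶ Q, z ≫ n = a := fun {T} a => by
    rw [hn]
    refine ⟨fun ⟨z, hz⟩ => ⟨Over.homMk z (by
      show z ≫ n₀ ≫ G.hom = T.hom
      rw [reassoc_of% hz, Over.w a]), Over.OverMorphism.ext hz⟩, fun ⟨z, hz⟩ => ⟨z.left, ?_⟩⟩
    rw [← hz]; rfl
  have hinv : ∀ (T : Over S) (a : T ⟶ Q), ∃ z : T ⟶ Q, z ≫ n = (a ≫ n)⁻¹ := fun T a => (hmem _).mp (by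
    rw [← _root_.one_mul (a ≫ n)⁻¹]
    exact locLift_mul 1 _ (locLift_one T) ((hmem _).mpr ⟨a, rfl⟩))
  obtain ⟨gQ, hnm⟩ := exists_grpObj_of_subgroup n (fun T => (hmem _).mp (locLift_one T)) (fun T a b => by
    obtain ⟨b', hb'⟩ := hinv T b
    refine (hmem _).mp ?_
    rw [← inv_inv (b ≫ n), ← hb']
    exact locLift_mul _ _ ((hmem _).mpr ⟨a, rfl⟩) ((hmem _).mpr ⟨b', rfl⟩)) hinv
  refine ⟨Q, gQ, n, hnm, inferInstance,
    (hmem u).mp (by simpa using locLift_left (u := u) (𝟙 E.left)), fun W Q₀ _ p j₀ _ hj₀ hp hpj => ?_⟩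
  haveI := hj₀
  haveI := hnm
  haveI : Mono j₀ := Over.mono_of_mono_left _
  haveI : Mono ((Over.pullback W.ι).map n) := Functor.map_mono _ _
  have hfst : ((Over.pullback W.ι).map n).left ≫ pullback.fst G.hom W.ι = pullback.fst Q.hom W.ι ≫ n.left :=
    pullback.lift_fst _ _ _
  have hsnd : ((Over.pullback W.ι).map n).left ≫ pullback.snd G.hom W.ι = pullback.snd Q.hom W.ι :=
    pullback.lift_snd _ _ _
  obtain ⟨z, hz⟩ := (locLift_iff_factor p j₀ hp hpj ((Over.pullback W.ι).map n).left).mp (by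
    rw [hfst]
    exact (hn _ _).mpr ⟨_, rfl⟩)
  let b : Red.bc W.ι Q ⟶ Q₀ := Over.homMk z (by
    rw [← Over.w j₀, reassoc_of% hz]
    exact hsnd)
  have hb : b ≫ j₀ = (Over.pullback W.ι).map n := Over.OverMorphism.ext hz
  obtain ⟨w, hw⟩ := (hn _ _).mp ((locLift_iff_factor p j₀ hp hpj j₀.left).mpr ⟨𝟙 _, Category.id_comp _⟩)
  let a : Q₀ ⟶ Red.bc W.ι Q := Over.homMk (pullback.lift w Q₀.hom (by
    show w ≫ n₀ ≫ G.hom = _
    rw [reassoc_of% hw, pullback.condition]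
    exact congrArg (· ≫ W.ι) (Over.w j₀))) (pullback.lift_snd _ _ _)
  have ha : a ≫ (Over.pullback W.ι).map n = j₀ := by
    apply Over.OverMorphism.ext
    apply pullback.hom_ext
    · rw [Over.comp_left, Category.assoc, hfst]
      show pullback.lift w Q₀.hom _ ≫ pullback.fst Q.hom W.ι ≫ n.left = _
      rw [pullback.lift_fst_assoc]
      exact hw
    · rw [Over.comp_left, Category.assoc, hsnd]
      exact (pullback.lift_snd _ _ _).trans (Over.w j₀).symm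
  let e : Red.bc W.ι Q ≅ Q₀ := ⟨b, a,
    by rw [← cancel_mono ((Over.pullback W.ι).map n), Category.assoc, ha, hb, Category.id_comp],
    by rw [← cancel_mono j₀, Category.assoc, hb, ha, Category.id_comp]⟩
  haveI hmn : IsMonHom ((Over.pullback W.ι).map n) := inferInstance
  haveI : IsMonHom e.hom := BCPoints.isMonHom_of_mul _ fun X x y => by
    show (x * y) ≫ b = (x ≫ b) * (y ≫ b)
    rw [← cancel_mono j₀, Category.assoc, hb, MonObj.mul_comp (x ≫ b) (y ≫ b) j₀, Category.assoc, Category.assoc, hb]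
    exact MonObj.mul_comp x y _
  exact ⟨Grp.mkIso' e⟩

end Groth.Agent.Cochar26
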