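import Groth.Agent.Cochar26.Lattice
import Groth.Agent.SGA3cLib.CentralEq
import Groth.Agent.RedQuotLib.Basic
import Groth.Agent.SGA3cLib.CentralDescent


/-! Quotients of diagonalisable groups by subgroups of multiplicative type are, locally, diagonalisable. -/

set_option autoImplicit false
set_option backward.isDefEq.respectTransparency.types false
set_option linter.style.haveILetI false

universe u

open CategoryTheory CategoryTheory.Limits MonoidalCategory CartesianMonoidalCategory MonObj AlgebraicGeometry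

noncomputable section

namespace Groth.Agent.Cochar26

open SGA3cLib

variable {S : Scheme.{u}}

theorem pt_one {S' : Scheme.{u}} (f : S' ⟶ S) (G : Over S) [GrpObj G] (X : Over S') :
    BCPoints.pt f G X 1 = 1 :=
  map_one (MonoidHom.mk' (BCPoints.pt f G X) (BCPoints.pt_mul f))

/-- Points above an open are transported along a morphism defined above that open. -/
theorem exists_point_transport {U : S.Opens} {A B G : Over S} (a : A ⟶ G) (b : B ⟶ G)
    (ψ : Red.bc U.ι A ⟶ Red.bc U.ι B) (h : ψ ≫ (Over.pullback U.ι).map b = (Over.pullback U.ι).map a)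
    {X : Over S} (hX : ∀ x, X.hom x ∈ U) (x : X ⟶ A) : ∃ y : X ⟶ B, y ≫ b = x ≫ a := by
  have hr : Set.range X.hom ⊆ Set.range U.ι := by
    rw [Scheme.Opens.range_ι]
    rintro _ ⟨x, rfl⟩
    exact hX x
  let l : X.left ⟶ (U : Scheme.{u}) := IsOpenImmersion.lift U.ι X.hom hr
  have hl : l ≫ U.ι = X.hom := IsOpenImmersion.lift_fac _ _ _
  let κ : X ⟶ (Over.map U.ι).obj (Over.mk l) := Over.homMk (𝟙 _) ((Category.id_comp _).trans hl)
  let κ' : (Over.map U.ι).obj (Over.mk l) ⟶ X := Over.homMk (𝟙 _) ((Category.id_comp _).trans hl.symm)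
  have hκ : κ ≫ κ' = 𝟙 X := Over.OverMorphism.ext (Category.id_comp _)
  let y' := (BCPoints.pt U.ι B _).symm (BCPoints.pt U.ι A _ (κ' ≫ x) ≫ ψ)
  refine ⟨κ ≫ y', ?_⟩
  have h1 : y' ≫ b = (κ' ≫ x) ≫ a := (BCPoints.pt U.ι G _).injective (by
    rw [BCPoints.pt_comp, BCPoints.pt_comp, Equiv.apply_symm_apply, Category.assoc, h])
  rw [Category.assoc, h1, Category.assoc, reassoc_of% hκ]

/-- A fppf covering of a diagonalisable group with fibres the cosets of the kernel of a restriction of characters is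
that restriction. -/
theorem exists_iso_DS {M : Type} [AddCommGroup M] (L : AddSubgroup M) {Q : Over S} [GrpObj Q]
    (q : Red.DS S M ⟶ Q) [IsMonHom q] (hq : RedQuotLib.IsFppfCov q)
    (hiff : ∀ (X : Over S) (a b : X ⟶ Red.DS S M),
      a ≫ q = b ≫ q ↔ a ≫ Red.DSmap S L.subtype = b ≫ Red.DSmap S L.subtype) :
    Nonempty (Grp.mk Q ≅ Grp.mk (Red.DS S L)) := by
  have hinj : Function.Injective L.subtype := L.subtype_injective
  have hk : Red.DSmap S (QuotientAddGroup.mk' L.subtype.range) ≫ q = 1 := by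
    refine ((hiff _ (Red.DSmap S (QuotientAddGroup.mk' L.subtype.range)) 1).mpr ?_).trans (MonObj.one_comp q)
    rw [mk_comp_self]
    exact (MonObj.one_comp _).symm
  obtain ⟨m, hm, hmq⟩ := exists_factor hinj q hk
  obtain ⟨m', hm'⟩ := hq.exists_desc (Red.DSmap S L.subtype) fun a b h => (hiff _ a b).mp h
  have hff := MultHomLocus.ff_of_injective L.subtype hinj S
  haveI : Flat (Red.DSmap S L.subtype).left := hff.1
  haveI : Surjective (Red.DSmap S L.subtype).left := hff.2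
  haveI : Epi (Red.DSmap S L.subtype).left := (hasCovLift_of _ _ _).epi
  haveI : Epi (Red.DSmap S L.subtype) := Over.epi_of_epi_left _
  haveI : Epi q := hq.epi
  let e : Red.DS S L ≅ Q := ⟨m, m', by rw [← cancel_epi (Red.DSmap S L.subtype), reassoc_of% hmq, hm', Category.comp_id],
    by rw [← cancel_epi q, reassoc_of% hm', hmq, Category.comp_id]⟩
  haveI : IsMonHom e.hom := hm
  exact ⟨(Grp.mkIso' e).symm⟩

/-- A subgroup of multiplicative type of a diagonalisable group is, near every point, the kernel of a restriction of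
characters. -/
theorem exists_local_kernel {M : Type} [AddCommGroup M] [AddGroup.FG M] {H : Over S} [GrpObj H]
    (hH : SGA3x.IsMultTypeFT H) (i : H ⟶ Red.DS S M) [IsMonHom i] [Mono i] (s : S) :
    ∃ (U : S.Opens) (L : AddSubgroup M), s ∈ U ∧ IsClosed (U : Set S) ∧
      ∀ (X : Over S), (∀ x, X.hom x ∈ U) → ∀ x : X ⟶ Red.DS S M,
        (∃ z : X ⟶ H, z ≫ i = x) ↔ x ≫ Red.DSmap S L.subtype = 1 := by
  obtain ⟨S', f, -, hsu, -, hU⟩ := id hH
  obtain ⟨s', hs'⟩ := hsu.surj s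
  obtain ⟨V, hsV, N, _, hN, ⟨e⟩⟩ := hU s'
  obtain ⟨x₀, hx₀⟩ : ∃ x : (V : Scheme.{u}), V.ι x = s' := ⟨⟨s', hsV⟩, rfl⟩
  obtain ⟨K, _, k₀, p₀, hk₀⟩ : ∃ (K : Type u) (_ : Field K) (k : Spec (CommRingCat.of K) ⟶ (V : Scheme.{u}))
      (p : Spec (CommRingCat.of K)), k p = x₀ :=
    ⟨(V : Scheme.{u}).residueField x₀, inferInstance, (V : Scheme.{u}).fromSpecResidueField x₀,
      IsLocalRing.closedPoint _, Scheme.fromSpecResidueField_apply _ _⟩
  let ω : Spec (CommRingCat.of K) ⟶ S := k₀ ≫ V.ι ≫ f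
  have hωp : ω p₀ = s := by
    simp only [ω, Scheme.Hom.comp_apply, hk₀, hx₀, hs']
  obtain ⟨eH, heH, heH'⟩ := GrpBC.nonempty_iso_restrict (V.ι ≫ f) k₀ ω rfl H e
  obtain ⟨c, hc, hnat⟩ := CentralEq.exists_bc_DS ω
  haveI := hc M
  haveI := heH'
  let T := Spec (CommRingCat.of K)
  let v : Red.DS T N ⟶ Red.DS T M := eH.inv ≫ (Over.pullback ω).map i ≫ (c M).hom
  haveI : IsMonHom v := inferInstance
  obtain ⟨W, φ, hxW, hW⟩ := DSHom.exists_eq_DSmap v p₀
  have hv : v = Red.DSmap T φ := by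
    have h2 := hW (Red.DS T N) (fun y _ => by rwa [Subsingleton.elim y p₀]) (𝟙 _)
    simpa using h2
  haveI : Mono ((Over.pullback ω).map i) := Functor.map_mono _ _
  haveI : Mono v := inferInstance
  haveI : Mono (Red.DSmap T φ) := hv ▸ inferInstance
  have hφ : Function.Surjective φ := MultHomLocus.surjective_of_mono φ (𝟙 T) inferInstance
  let L := φ.ker
  let R := L.subtype.range
  have hR : R = L := AddSubgroup.range_subtype L
  let ψ₀ : M ⧸ R →+ N := QuotientAddGroup.lift R φ (by rw [hR])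
  have hψ₀ : Function.Bijective ψ₀ := by
    refine ⟨(injective_iff_map_eq_zero _).mpr fun z => ?_, fun n => ?_⟩
    · obtain ⟨m, rfl⟩ := QuotientAddGroup.mk_surjective z
      intro hm
      exact (QuotientAddGroup.eq_zero_iff m).mpr (hR.symm ▸ hm)
    · obtain ⟨m, rfl⟩ := hφ n
      exact ⟨QuotientAddGroup.mk m, rfl⟩
  haveI : AddGroup.FG (M ⧸ R) := inferInstance
  let k : Red.DS S (M ⧸ R) ⟶ Red.DS S M := Red.DSmap S (QuotientAddGroup.mk' R)
  haveI : Mono k.left := MultHomLocus.mono_of_surjective _ (QuotientAddGroup.mk'_surjective R) S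
  haveI : IsIso (Red.DSmap T ψ₀) := by
    haveI := MultHomLocus.isIso_of_bijective ψ₀ hψ₀ T
    haveI : IsIso ((Over.forget T).map (Red.DSmap T ψ₀)) := inferInstanceAs (IsIso (Red.DSmap T ψ₀).left)
    exact isIso_of_reflects_iso _ (Over.forget T)
  have hgood : CentralEq.Good i k ω := by
    refine (CentralEq.good_iff i k ω).mpr ⟨eH ≪≫ asIso (Red.DSmap T ψ₀) ≪≫ (c (M ⧸ R)).symm, ?_⟩
    rw [← cancel_mono (c M).hom]
    simp only [Iso.trans_hom, asIso_hom, Iso.symm_hom, Category.assoc, k]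
    rw [hnat, Iso.inv_hom_id_assoc, DSmap_comp,
      show ψ₀.comp (QuotientAddGroup.mk' R) = φ from AddMonoidHom.ext fun m => rfl, ← hv]
    simp [v]
  haveI := IsoTriv.SchemeBridge.isAffineHom_of_multTypeFT _ (isMultTypeFT_DS S M)
  haveI := TrivLocus.locallyOfFinitePresentation_DS S M
  obtain ⟨U, hUc, hU, hUgood⟩ := CentralEq.exists_clopen i k (Or.inr inferInstance) hH (isMultTypeFT_DS S _)
    (fun X g h => IsoTriv.mul_comm_of_multTypeFT (isMultTypeFT_DS S M) _ _)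
  have hsU : s ∈ U := (hU s).mpr (hωp ▸ (CentralEq.good_field i k ω p₀).mp hgood)
  obtain ⟨ψ, hψ⟩ := (CentralEq.good_iff i k U.ι).mp hUgood
  refine ⟨U, L, hsU, hUc, fun X hX x => ⟨?_, fun hx => ?_⟩⟩
  · rintro ⟨z, rfl⟩
    obtain ⟨y, hy⟩ := exists_point_transport i k ψ.hom hψ hX z
    rw [← hy, Category.assoc, mk_comp_self, MonObj.comp_one]
  · obtain ⟨q, hq⟩ := exists_of_comp_eq_one L.subtype x hx
    obtain ⟨y, hy⟩ := exists_point_transport k i ψ.inv (by rw [← hψ, Iso.inv_hom_id_assoc]) hX q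
    exact ⟨y, hy.trans hq⟩

/-- Base change of the cosets description of a quotient. -/
theorem bc_data {S' : Scheme.{u}} (f : S' ⟶ S) {G H Q : Over S} [GrpObj G] [GrpObj H] (i : H ⟶ G) (q : G ⟶ Q)
    (hq : RedQuotLib.IsFppfCov q)
    (hiff : ∀ (X : Over S) (a b : X ⟶ G), a ≫ q = b ≫ q ↔ ∃ h : X ⟶ H, b = a * (h ≫ i)) :
    RedQuotLib.IsFppfCov ((Over.pullback f).map q) ∧
      ∀ (X : Over S') (a b : X ⟶ Red.bc f G), a ≫ (Over.pullback f).map q = b ≫ (Over.pullback f).map q ↔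
        ∃ h : X ⟶ Red.bc f H, b = a * (h ≫ (Over.pullback f).map i) := by
  refine ⟨?_, fun X a b => ?_⟩
  · obtain ⟨h1, h2, h3⟩ := hq
    exact ⟨MorphismProperty.of_isPullback (MultHomLocus.isPullback_map q f) h1,
      MorphismProperty.of_isPullback (MultHomLocus.isPullback_map q f) h2,
      MorphismProperty.of_isPullback (MultHomLocus.isPullback_map q f) h3⟩
  · obtain ⟨a', rfl⟩ := (BCPoints.pt f G X).surjective a
    obtain ⟨b', rfl⟩ := (BCPoints.pt f G X).surjective b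
    rw [← BCPoints.pt_comp, ← BCPoints.pt_comp, (BCPoints.pt f Q X).injective.eq_iff, hiff]
    constructor
    · rintro ⟨h, rfl⟩
      exact ⟨BCPoints.pt f H X h, by rw [← BCPoints.pt_comp, ← BCPoints.pt_mul]⟩
    · rintro ⟨h, hh⟩
      obtain ⟨h', rfl⟩ := (BCPoints.pt f H X).surjective h
      rw [← BCPoints.pt_comp, ← BCPoints.pt_mul] at hh
      exact ⟨h', (BCPoints.pt f G X).injective hh⟩

theorem iff_of_points {G H Q G' : Over S} [GrpObj G] [GrpObj H] [GrpObj G'] {i : H ⟶ G} {q : G ⟶ Q} (k : G ⟶ G')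
    [IsMonHom k] {X : Over S} (hX : ∀ a b : X ⟶ G, a ≫ q = b ≫ q ↔ ∃ h : X ⟶ H, b = a * (h ≫ i))
    (hk : ∀ x : X ⟶ G, (∃ z : X ⟶ H, z ≫ i = x) ↔ x ≫ k = 1) (a b : X ⟶ G) : a ≫ q = b ≫ q ↔ a ≫ k = b ≫ k := by
  rw [hX]
  constructor
  · rintro ⟨h, rfl⟩
    rw [MonObj.mul_comp a (h ≫ i) k, (hk _).mp ⟨h, rfl⟩, _root_.mul_one]
  · intro h
    obtain ⟨z, hz⟩ := (hk (a⁻¹ * b)).mpr (by
      rw [MonObj.mul_comp a⁻¹ b k, GrpObj.inv_comp a k, h, inv_mul_cancel])
    exact ⟨z, by rw [hz, mul_inv_cancel_left]⟩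

/-- A quotient of a diagonalisable group by a subgroup of multiplicative type is diagonalisable near every point. -/
theorem exists_quotient_local {M : Type} [AddCommGroup M] [AddGroup.FG M] {H Q : Over S} [GrpObj H] [GrpObj Q]
    (hH : SGA3x.IsMultTypeFT H) (i : H ⟶ Red.DS S M) [IsMonHom i] [Mono i] (q : Red.DS S M ⟶ Q) [IsMonHom q]
    (hq : RedQuotLib.IsFppfCov q)
    (hiff : ∀ (X : Over S) (a b : X ⟶ Red.DS S M), a ≫ q = b ≫ q ↔ ∃ h : X ⟶ H, b = a * (h ≫ i)) (s : S) :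
    ∃ (U : S.Opens) (L : AddSubgroup M), s ∈ U ∧ IsClosed (U : Set S) ∧
      Nonempty (Grp.mk (Red.bc U.ι Q) ≅ Grp.mk (Red.DS (U : Scheme.{u}) L)) := by
  obtain ⟨U, L, hs, hUc, hL⟩ := exists_local_kernel hH i s
  refine ⟨U, L, hs, hUc, ?_⟩
  obtain ⟨hqU, hiffU⟩ := bc_data U.ι i q hq hiff
  obtain ⟨c, hc, hnat⟩ := CentralEq.exists_bc_DS U.ι
  haveI := hc M
  haveI := hc L
  haveI : IsMonHom (c M).inv := inferInstance
  haveI : IsMonHom (c L).hom := inferInstance
  refine exists_iso_DS L ((c M).inv ≫ (Over.pullback U.ι).map q) ((RedQuotLib.IsFppfCov.of_isIso (c M).inv).comp hqU) ?_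
  have key : ∀ (X : Over (U : Scheme.{u})) (x : X ⟶ Red.bc U.ι (Red.DS S M)),
      (∃ z, z ≫ (Over.pullback U.ι).map i = x) ↔ x ≫ (Over.pullback U.ι).map (Red.DSmap S L.subtype) = 1 := by
    intro X x
    obtain ⟨x', rfl⟩ := (BCPoints.pt U.ι _ X).surjective x
    have h1 := hL ((Over.map U.ι).obj X) (fun y => by
      show U.ι (X.hom y) ∈ U
      exact (X.hom y).2) x'
    rw [← BCPoints.pt_comp, ← pt_one U.ι (Red.DS S L) X, (BCPoints.pt U.ι _ X).injective.eq_iff, ← h1]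
    constructor
    · rintro ⟨z, hz⟩
      obtain ⟨z', rfl⟩ := (BCPoints.pt U.ι H X).surjective z
      rw [← BCPoints.pt_comp] at hz
      exact ⟨z', (BCPoints.pt U.ι _ X).injective hz⟩
    · rintro ⟨z, rfl⟩
      exact ⟨BCPoints.pt U.ι H X z, (BCPoints.pt_comp U.ι z i).symm⟩
  intro X a b
  have h1 := iff_of_points ((Over.pullback U.ι).map (Red.DSmap S L.subtype)) (hiffU X) (key X) (a ≫ (c M).inv) (b ≫ (c M).inv)
  rw [← Category.assoc, ← Category.assoc, h1, ← cancel_mono (c L).hom]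
  simp only [Category.assoc]
  rw [hnat, Iso.inv_hom_id_assoc]

/-- A subgroup of a free group of finite rank, reindexed. -/
theorem exists_split_DS (U : Scheme.{u}) {r : ℕ} (L : AddSubgroup (Fin r → ℤ)) :
    ∃ r' : ℕ, r' ≤ r ∧ Red.IsSplitTorusWith (Fin r' → ℤ) (Red.DS U L) := by
  let P := AddSubgroup.toIntSubmodule L
  obtain ⟨r', b⟩ := Submodule.basisOfPid (Pi.basisFun ℤ (Fin r)) P
  let ε : L ≃+ (Fin r' → ℤ) := b.equivFun.toAddEquiv
  refine ⟨r', ?_, ?_⟩
  · have h := Submodule.finrank_le P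
    rw [Module.finrank_eq_card_basis b] at h
    simpa using h
  · let i : Red.DS U L ≅ Red.DS U (Fin r' → ℤ) :=
      ⟨Red.DSmap U ε.symm.toAddMonoidHom, Red.DSmap U ε.toAddMonoidHom,
        by rw [DSmap_comp, show ε.symm.toAddMonoidHom.comp ε.toAddMonoidHom = AddMonoidHom.id _ from
          AddMonoidHom.ext fun x => ε.symm_apply_apply x, DSmap_id],
        by rw [DSmap_comp, show ε.toAddMonoidHom.comp ε.symm.toAddMonoidHom = AddMonoidHom.id _ from
          AddMonoidHom.ext fun x => ε.apply_symm_apply x, DSmap_id]⟩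
    haveI : IsMonHom i.hom := isMonHom_DSmap _
    exact ⟨Grp.mkIso' i⟩

end Groth.Agent.Cochar26
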