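import Groth.Agent.Cochar26.LocalImage
import Groth.Agent.Cochar26.ImageGlue
import Groth.Agent.Cochar26.Quot

/-! Local image data for homomorphisms from locally split tori. -/

set_option autoImplicit false
set_option backward.isDefEq.respectTransparency.types false
set_option linter.style.haveILetI false

universe u

open CategoryTheory CategoryTheory.Limits MonoidalCategory CartesianMonoidalCategory MonObj AlgebraicGeometry

noncomputable section

namespace Groth.Agent.Cochar26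

open SGA3cLib

variable {S : Scheme.{u}}

/-- The product of two diagonalisable groups is diagonalisable. -/
theorem exists_prodIso (U : Scheme.{u}) (M N : Type) [AddCommGroup M] [AddCommGroup N] :
    ∃ i : Red.DS U (M × N) ≅ Red.DS U M ⊗ Red.DS U N, IsMonHom i.hom := by
  let a : Red.DS U (M × N) ⟶ Red.DS U M ⊗ Red.DS U N :=
    lift (Red.DSmap U (AddMonoidHom.inl M N)) (Red.DSmap U (AddMonoidHom.inr M N))
  let b : Red.DS U M ⊗ Red.DS U N ⟶ Red.DS U (M × N) :=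
    (fst _ _ ≫ Red.DSmap U (AddMonoidHom.fst M N)) * (snd _ _ ≫ Red.DSmap U (AddMonoidHom.snd M N))
  haveI hi : IsMonHom a := inferInstance
  refine ⟨⟨a, b, ?_, ?_⟩, hi⟩
  · rw [MonObj.comp_mul, lift_fst_assoc, lift_snd_assoc, DSmap_comp, DSmap_comp, ← DSmap_add, ← DSmap_id]
    congr 1
    ext x <;> simp
  · apply CartesianMonoidalCategory.hom_ext
    · rw [Category.assoc, lift_fst, Category.id_comp,
        MonObj.mul_comp _ _ (Red.DSmap U (AddMonoidHom.inl M N)), Category.assoc, Category.assoc, DSmap_comp,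
        DSmap_comp, show (AddMonoidHom.fst M N).comp (AddMonoidHom.inl M N) = AddMonoidHom.id M from rfl,
        show (AddMonoidHom.snd M N).comp (AddMonoidHom.inl M N) = 0 from rfl, DSmap_id, DSmap_zero, MonObj.comp_one,
        _root_.mul_one, Category.comp_id]
    · rw [Category.assoc, lift_snd, Category.id_comp,
        MonObj.mul_comp _ _ (Red.DSmap U (AddMonoidHom.inr M N)), Category.assoc, Category.assoc, DSmap_comp,
        DSmap_comp, show (AddMonoidHom.snd M N).comp (AddMonoidHom.inr M N) = AddMonoidHom.id N from rfl,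
        show (AddMonoidHom.fst M N).comp (AddMonoidHom.inr M N) = 0 from rfl, DSmap_id, DSmap_zero, MonObj.comp_one,
        _root_.one_mul, Category.comp_id]

/-- Split tori over an open stay split on a smaller open. -/
theorem exists_iso_of_le {X : Over S} [GrpObj X] {U V : S.Opens} (h : V ≤ U) {M : Type} [AddCommGroup M]
    (e : Grp.mk (Red.bc U.ι X) ≅ Grp.mk (Red.DS (U : Scheme.{u}) M)) :
    Nonempty (Grp.mk (Red.bc V.ι X) ≅ Grp.mk (Red.DS (V : Scheme.{u}) M)) := by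
  obtain ⟨i, hi, -⟩ := GrpBC.nonempty_iso_restrict U.ι (S.homOfLE h) V.ι (S.homOfLE_ι h) X e
  haveI := hi
  exact ⟨Grp.mkIso' i⟩

/-- The base change of a product of two locally split tori is split near every point. -/
theorem exists_split_prod {E₁ E₂ : Over S} [GrpObj E₁] [GrpObj E₂]
    (h₁ : ∀ s : S, ∃ U : S.Opens, s ∈ U ∧ ∃ r : ℕ, Red.IsSplitTorusWith (Fin r → ℤ) (Red.bc U.ι E₁))
    (h₂ : ∀ s : S, ∃ U : S.Opens, s ∈ U ∧ ∃ r : ℕ, Red.IsSplitTorusWith (Fin r → ℤ) (Red.bc U.ι E₂)) (s : S) :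
    ∃ U : S.Opens, s ∈ U ∧ ∃ r : ℕ, Red.IsSplitTorusWith (Fin r → ℤ) (Red.bc U.ι (E₁ ⊗ E₂)) := by
  obtain ⟨U₁, hs₁, a, ⟨e₁⟩⟩ := h₁ s
  obtain ⟨U₂, hs₂, b, ⟨e₂⟩⟩ := h₂ s
  obtain ⟨d₁⟩ := exists_iso_of_le (inf_le_left : U₁ ⊓ U₂ ≤ U₁) e₁
  obtain ⟨d₂⟩ := exists_iso_of_le (inf_le_right : U₁ ⊓ U₂ ≤ U₂) e₂
  let V := U₁ ⊓ U₂
  let F := Over.pullback V.ι
  let f₁ : Red.bc V.ι (E₁ ⊗ E₂) ⟶ Red.bc V.ι E₁ := F.map (fst E₁ E₂)
  let f₂ : Red.bc V.ι (E₁ ⊗ E₂) ⟶ Red.bc V.ι E₂ := F.map (snd E₁ E₂)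
  let i₁ : Red.bc V.ι E₁ ⟶ Red.DS (V : Scheme.{u}) (Fin a → ℤ) := d₁.hom.hom.hom
  let i₂ : Red.bc V.ι E₂ ⟶ Red.DS (V : Scheme.{u}) (Fin b → ℤ) := d₂.hom.hom.hom
  haveI : IsMonHom i₁ := d₁.hom.hom.isMonHom_hom
  haveI : IsMonHom i₂ := d₂.hom.hom.isMonHom_hom
  haveI : IsIso i₁ := ((Grp.forget _).mapIso d₁).isIso_hom
  haveI : IsIso i₂ := ((Grp.forget _).mapIso d₂).isIso_hom
  haveI : IsMonHom f₁ := inferInstance
  haveI : IsMonHom f₂ := inferInstance
  obtain ⟨P, hP⟩ := exists_prodIso (V : Scheme.{u}) (Fin a → ℤ) (Fin b → ℤ)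
  haveI := hP
  let ε : ((Fin a → ℤ) × (Fin b → ℤ)) ≃+ (Fin (a + b) → ℤ) :=
    ((LinearEquiv.sumArrowLequivProdArrow (Fin a) (Fin b) ℤ ℤ).symm.trans
      (LinearEquiv.funCongrLeft ℤ ℤ finSumFinEquiv.symm)).toAddEquiv
  let q : Red.bc V.ι (E₁ ⊗ E₂) ⟶ Red.DS (V : Scheme.{u}) (Fin (a + b) → ℤ) :=
    lift (f₁ ≫ i₁) (f₂ ≫ i₂) ≫ P.inv ≫ Red.DSmap (V : Scheme.{u}) ε.symm.toAddMonoidHom
  haveI : IsMonHom P.inv := inferInstance
  haveI : IsMonHom q := inferInstance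
  haveI : IsIso (lift (f₁ ≫ i₁) (f₂ ≫ i₂)) := by
    have h : lift (f₁ ≫ i₁) (f₂ ≫ i₂) = CartesianMonoidalCategory.prodComparison F E₁ E₂ ≫ (i₁ ⊗ₘ i₂) := by
      apply CartesianMonoidalCategory.hom_ext
      · rw [lift_fst, Category.assoc, tensorHom_fst, CartesianMonoidalCategory.prodComparison_fst_assoc]
      · rw [lift_snd, Category.assoc, tensorHom_snd, CartesianMonoidalCategory.prodComparison_snd_assoc]
    rw [h]
    infer_instance
  haveI : IsIso (Red.DSmap (V : Scheme.{u}) ε.symm.toAddMonoidHom) :=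
    ⟨Red.DSmap _ ε.toAddMonoidHom, by
      rw [DSmap_comp, show ε.symm.toAddMonoidHom.comp ε.toAddMonoidHom = AddMonoidHom.id _ from
        AddMonoidHom.ext fun x => ε.symm_apply_apply x, DSmap_id], by
      rw [DSmap_comp, show ε.toAddMonoidHom.comp ε.symm.toAddMonoidHom = AddMonoidHom.id _ from
        AddMonoidHom.ext fun x => ε.apply_symm_apply x, DSmap_id]⟩
  haveI : IsIso q := inferInstance
  haveI : IsMonHom (asIso q).hom := inferInstanceAs (IsMonHom q)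
  exact ⟨V, ⟨hs₁, hs₂⟩, a + b, ⟨Grp.mkIso' (asIso q)⟩⟩

/-- A closed subgroup covered by the source, on an open of the base. -/
def ImageDatum {E G : Over S} [GrpObj E] [GrpObj G] (u : E ⟶ G) (W : S.Opens) : Prop :=
  ∃ (r : ℕ) (Q₀ : Over (W : Scheme.{u})) (_ : GrpObj Q₀) (p : Red.bc W.ι E ⟶ Q₀) (j : Q₀ ⟶ Red.bc W.ι G),
    IsMonHom j ∧ IsClosedImmersion j.left ∧ HasCovLift p.left ∧ p ≫ j = (Over.pullback W.ι).map u ∧
      Red.IsSplitTorusWith (Fin r → ℤ) Q₀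

theorem exists_hloc {E G : Over S} [GrpObj E] [GrpObj G] {u : E ⟶ G}
    (h : ∀ s : S, ∃ W : S.Opens, s ∈ W ∧ ImageDatum u W) :
    ∀ s : S, ∃ (W : S.Opens) (Q₀ : Over (W : Scheme.{u})) (p : Red.bc W.ι E ⟶ Q₀) (j : Q₀ ⟶ Red.bc W.ι G),
      s ∈ W ∧ IsClosedImmersion j.left ∧ HasCovLift p.left ∧ p ≫ j = (Over.pullback W.ι).map u := fun s => by
  obtain ⟨W, hs, r, Q₀, _, p, j, -, hj, hp, hpj, -⟩ := h s
  exact ⟨W, Q₀, p, j, hs, hj, hp, hpj⟩

set_option maxHeartbeats 1000000 in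
/-- Over an open on which the source is split, an image datum exists near every point. -/
theorem exists_datum {E G : Over S} [GrpObj E] [GrpObj G] (hG : SGA3x.IsMultTypeFT G) (u : E ⟶ G) [IsMonHom u]
    {U : S.Opens} {r : ℕ} (hU : Red.IsSplitTorusWith (Fin r → ℤ) (Red.bc U.ι E)) (s : S) (hs : s ∈ U) :
    ∃ W : S.Opens, s ∈ W ∧ ImageDatum u W := by
  obtain ⟨e₀⟩ := hU
  let e : Red.bc U.ι E ≅ Red.DS (U : Scheme.{u}) (Fin r → ℤ) := (Grp.forget _).mapIso e₀
  haveI : IsMonHom e.inv := e₀.inv.hom.isMonHom_hom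
  haveI : IsMonHom ((Over.pullback U.ι).map u) := inferInstance
  obtain ⟨W, L, j, p, hsW, hj, hjc, hp, hpc, hpj⟩ := exists_local_image
    (SGA3cLib.CentralDescent.isMultTypeFT_bc U.ι G hG) (e.inv ≫ (Over.pullback U.ι).map u) ⟨s, hs⟩
  let W' : S.Opens := U.ι ''ᵁ W
  let k : (W' : Scheme.{u}) ⟶ (W : Scheme.{u}) := (U.ι.isoImage W).inv
  let g : (W : Scheme.{u}) ⟶ S := W.ι ≫ U.ι
  have hk : k ≫ g = W'.ι := by
    simp only [k, g, W', ← Scheme.Hom.isoImage_hom_ι, Iso.inv_hom_id_assoc]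
  let α := GrpBC.bcCongr U.ι W.ι g rfl
  let β := GrpBC.bcCongr g k W'.ι hk
  haveI := hj
  obtain ⟨hαG, -⟩ := GrpBC.isMonHom_app α G
  obtain ⟨hβG, -⟩ := GrpBC.isMonHom_app β G
  let aG : Red.bc W.ι (Red.bc U.ι G) ⟶ Red.bc g G := (α.app G).hom
  let bG : Red.bc k (Red.bc g G) ⟶ Red.bc W'.ι G := (β.app G).hom
  haveI : IsMonHom aG := hαG
  haveI : IsMonHom bG := hβG
  let j' : Red.bc k (Red.DS (W : Scheme.{u}) L) ⟶ Red.bc W'.ι G := (Over.pullback k).map (j ≫ aG) ≫ bG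
  let p' : Red.bc W'.ι E ⟶ Red.bc k (Red.DS (W : Scheme.{u}) L) :=
    (β.app E).inv ≫ (Over.pullback k).map ((α.app E).inv ≫ (Over.pullback W.ι).map e.hom ≫ p)
  haveI : IsMonHom j' := inferInstance
  obtain ⟨c, hc, -⟩ := CentralEq.exists_bc_DS k
  haveI := hc L
  obtain ⟨r', -, ⟨d⟩⟩ := exists_split_DS (W' : Scheme.{u}) L
  refine ⟨W', ⟨⟨s, hs⟩, hsW, rfl⟩, r', Red.bc k (Red.DS (W : Scheme.{u}) L), inferInstance, p', j', inferInstance,
    ?_, ?_, ?_, ⟨Grp.mkIso' (c L) ≪≫ d⟩⟩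
  · haveI : IsClosedImmersion (j ≫ aG).left := by
      haveI := hjc
      haveI : IsIso aG.left := inferInstanceAs (IsIso ((Over.forget _).map (α.app G).hom))
      rw [Over.comp_left]; infer_instance
    haveI : IsClosedImmersion ((Over.pullback k).map (j ≫ aG)).left :=
      MorphismProperty.of_isPullback (P := @IsClosedImmersion) (MultHomLocus.isPullback_map (j ≫ aG) k) this
    haveI : IsIso bG.left := inferInstanceAs (IsIso ((Over.forget _).map (β.app G).hom))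
    rw [Over.comp_left]; infer_instance
  · let q := (α.app E).inv ≫ (Over.pullback W.ι).map e.hom ≫ p
    have hq : HasCovLift q.left := by
      haveI : IsIso ((α.app E).inv ≫ (Over.pullback W.ι).map e.hom).left :=
        inferInstanceAs (IsIso ((Over.forget (W : Scheme.{u})).map ((α.app E).inv ≫ (Over.pullback W.ι).map e.hom)))
      rw [show q = ((α.app E).inv ≫ (Over.pullback W.ι).map e.hom) ≫ p from (Category.assoc _ _ _).symm, Over.comp_left]
      exact (hasCovLift_iso _).comp hpc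
    haveI : IsIso (β.app E).inv.left := inferInstanceAs (IsIso ((Over.forget _).map (β.app E).inv))
    rw [Over.comp_left]
    exact (hasCovLift_iso _).comp (hq.of_isPullback (MultHomLocus.isPullback_map q k))
  · simp only [p', j', Category.assoc]
    rw [← Functor.map_comp_assoc]
    simp only [Category.assoc, reassoc_of% hpj]
    rw [← Functor.map_comp_assoc, Iso.hom_inv_id_assoc]
    have h1 : (Over.pullback W.ι).map ((Over.pullback U.ι).map u) ≫ aG = (α.app E).hom ≫ (Over.pullback g).map u :=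
      α.hom.naturality u
    rw [h1, Iso.inv_hom_id_assoc]
    exact (β.app E).inv_comp_eq.mpr (β.hom.naturality u)

end Groth.Agent.Cochar26
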