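import Groth.Agent.S5427
import Groth.Agent.SGA3cLib.BCPoints
import Groth.Agent.SGA3cLib.FpqcEpi
import Groth.Agent.SGA3cLib.MultHomLocus
import Mathlib.GroupTheory.QuotientGroup.Basic

/-! Homomorphisms from diagonalisable groups killing the kernel of a restriction of characters factor through it. -/

set_option autoImplicit false
set_option backward.isDefEq.respectTransparency.types false
set_option linter.style.haveILetI false

universe u

open CategoryTheory CategoryTheory.Limits MonoidalCategory CartesianMonoidalCategory MonObj AlgebraicGeometry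

noncomputable section

namespace Groth.Agent.Cochar26

open SGA3cLib

variable {U : Scheme.{u}} {M N P : Type} [AddCommGroup M] [AddCommGroup N] [AddCommGroup P]

theorem ds_ext {W : Over U} {p q : W ⟶ Red.DS U M}
    (h : ∀ m : M, dsFn p (Multiplicative.ofAdd m) = dsFn q (Multiplicative.ofAdd m)) : p = q :=
  dsFn_injective (MonoidHom.ext fun m => h m.toAdd)

theorem dsFn_map (φ : N →+ M) {W : Over U} (p : W ⟶ Red.DS U M) (n : N) :
    dsFn (p ≫ Red.DSmap U φ) (Multiplicative.ofAdd n) = dsFn p (Multiplicative.ofAdd (φ n)) := by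
  rw [S5427.dsFn_DSmap]
  rfl

instance isMonHom_DSmap (φ : N →+ M) : IsMonHom (Red.DSmap U φ) :=
  BCPoints.isMonHom_of_mul _ fun W x y => ds_ext fun n => by
    rw [dsFn_mul, dsFn_map, dsFn_map, dsFn_map, dsFn_mul]

theorem DSmap_comp (φ : N →+ M) (ψ : P →+ N) : Red.DSmap U φ ≫ Red.DSmap U ψ = Red.DSmap U (φ.comp ψ) :=
  ds_ext fun p => by
    rw [dsFn_map]
    have h1 := dsFn_map φ (𝟙 (Red.DS U M)) (ψ p)
    have h2 := dsFn_map (φ.comp ψ) (𝟙 (Red.DS U M)) p
    rw [Category.id_comp] at h1 h2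
    rw [h1, h2]
    rfl

theorem DSmap_add (φ ψ : N →+ M) : Red.DSmap U (φ + ψ) = Red.DSmap U φ * Red.DSmap U ψ :=
  ds_ext fun n => by
    have h1 := dsFn_map φ (𝟙 (Red.DS U M)) n
    have h2 := dsFn_map ψ (𝟙 (Red.DS U M)) n
    have h3 := dsFn_map (φ + ψ) (𝟙 (Red.DS U M)) n
    rw [Category.id_comp] at h1 h2 h3
    rw [dsFn_mul, h1, h2, h3, ← map_mul]
    rfl

theorem DSmap_zero : Red.DSmap U (0 : N →+ M) = 1 :=
  ds_ext fun n => by
    have h1 := dsFn_map (0 : N →+ M) (𝟙 (Red.DS U M)) n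
    rw [Category.id_comp] at h1
    rw [h1, dsFn_one, AddMonoidHom.zero_apply, ofAdd_zero, map_one]

theorem DSmap_id : Red.DSmap U (AddMonoidHom.id M) = 𝟙 _ :=
  ds_ext fun n => by
    have h1 := dsFn_map (AddMonoidHom.id M) (𝟙 (Red.DS U M)) n
    rwa [Category.id_comp] at h1

/-- The points killed by a restriction of characters come from the cokernel. -/
theorem exists_of_comp_eq_one (φ : N →+ M) {W : Over U} (w : W ⟶ Red.DS U M) (h : w ≫ Red.DSmap U φ = 1) :
    ∃ q : W ⟶ Red.DS U (M ⧸ φ.range), q ≫ Red.DSmap U (QuotientAddGroup.mk' φ.range) = w := by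
  let f : M →+ Additive Γ(W.left, ⊤)ˣ := MonoidHom.toAdditiveRight (dsFn w).toHomUnits
  have hle : φ.range ≤ f.ker := by
    rintro _ ⟨n, rfl⟩
    refine Additive.toMul.injective (Units.ext ?_)
    show dsFn w (Multiplicative.ofAdd (φ n)) = 1
    rw [← dsFn_map, h, dsFn_one]
  obtain ⟨q, hq⟩ := exists_dsPt (U := U) (M := M ⧸ φ.range) (W := W)
    ((Units.coeHom _).comp (AddMonoidHom.toMultiplicativeLeft (QuotientAddGroup.lift φ.range f hle)))
  refine ⟨q, ds_ext fun m => ?_⟩
  rw [dsFn_map, hq]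
  rfl

theorem mk_comp_self (φ : N →+ M) :
    Red.DSmap U (QuotientAddGroup.mk' φ.range) ≫ Red.DSmap U φ = 1 := by
  rw [DSmap_comp, show (QuotientAddGroup.mk' φ.range).comp φ = 0 from AddMonoidHom.ext fun n =>
    (QuotientAddGroup.eq_zero_iff _).mpr ⟨n, rfl⟩, DSmap_zero]

instance isAffineHom_DS : IsAffineHom (Red.DS U M).hom := by
  refine MorphismProperty.pullback_snd (P := @IsAffineHom) _ _ ?_
  show IsAffineHom (Spec.map _)
  infer_instance

instance isAffineHom_DSmap_left (φ : N →+ M) : IsAffineHom (Red.DSmap U φ).left := by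
  haveI : IsAffineHom ((Red.DSmap U φ).left ≫ (Red.DS U N).hom) := by rw [Over.w]; infer_instance
  exact MorphismProperty.of_postcomp @IsAffineHom (W' := @IsSeparated) (Red.DSmap U φ).left (Red.DS U N).hom
    (show IsSeparated (Red.DS U N).hom from inferInstance) this

theorem hasCovLift_of (X Y : Scheme.{u}) (f : X ⟶ Y) [Flat f] [Surjective f] [QuasiCompact f] : HasCovLift f :=
  ⟨X, f, 𝟙 X, Category.id_comp f, IsFpqcCov.of_forall f fun V hV =>
    ⟨f ⁻¹ᵁ V, f.isCompact_preimage hV.isCompact, Set.image_preimage_eq _ f.surjective⟩⟩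

/-- A homomorphism killing the kernel of an injective restriction of characters factors through it. -/
theorem exists_factor {φ : N →+ M} (hφ : Function.Injective φ) {G : Over U} [GrpObj G] (h : Red.DS U M ⟶ G)
    [IsMonHom h] (hk : Red.DSmap U (QuotientAddGroup.mk' φ.range) ≫ h = 1) :
    ∃ m : Red.DS U N ⟶ G, IsMonHom m ∧ Red.DSmap U φ ≫ m = h := by
  have hff := MultHomLocus.ff_of_injective φ hφ U
  haveI : Flat (Red.DSmap U φ).left := hff.1
  haveI : Surjective (Red.DSmap U φ).left := hff.2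
  have hc : HasCovLift (Red.DSmap U φ).left := hasCovLift_of _ _ _
  obtain ⟨m₀, hm₀⟩ := hc.exists_desc h.left (fun {T} a b hab => by
    let W : Over U := Over.mk (a ≫ (Red.DS U M).hom)
    let a' : W ⟶ Red.DS U M := Over.homMk a rfl
    let b' : W ⟶ Red.DS U M := Over.homMk b (by
      show b ≫ _ = a ≫ _
      rw [← Over.w (Red.DSmap U φ), reassoc_of% hab])
    have hab' : a' ≫ Red.DSmap U φ = b' ≫ Red.DSmap U φ := Over.OverMorphism.ext hab
    obtain ⟨q, hq⟩ := exists_of_comp_eq_one φ (a'⁻¹ * b') (by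
      rw [MonObj.mul_comp a'⁻¹ b' (Red.DSmap U φ), GrpObj.inv_comp a' (Red.DSmap U φ), hab', inv_mul_cancel])
    have h1 : (a'⁻¹ * b') ≫ h = 1 := by rw [← hq, Category.assoc, hk, MonObj.comp_one]
    rw [MonObj.mul_comp a'⁻¹ b' h, GrpObj.inv_comp a' h, inv_mul_eq_one] at h1
    exact congrArg CommaMorphism.left h1)
  haveI : Epi (Red.DSmap U φ).left := hc.epi
  let m : Red.DS U N ⟶ G := Over.homMk m₀ (by
    rw [← cancel_epi (Red.DSmap U φ).left, reassoc_of% hm₀]
    exact (Over.w h).trans (Over.w (Red.DSmap U φ)).symm)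
  have hm : Red.DSmap U φ ≫ m = h := Over.OverMorphism.ext hm₀
  refine ⟨m, ?_, hm⟩
  have hprod : Flat (Red.DSmap U φ ⊗ₘ Red.DSmap U φ).left ∧ Surjective (Red.DSmap U φ ⊗ₘ Red.DSmap U φ).left ∧
      QuasiCompact (Red.DSmap U φ ⊗ₘ Red.DSmap U φ).left := by
    rw [Over.tensorHom_left]
    have e := (Over.w (Red.DSmap U φ)).symm
    exact ⟨MorphismProperty.pullback_map (P := @Flat) inferInstance inferInstance e e,
      MorphismProperty.pullback_map (P := @Surjective) inferInstance inferInstance e e,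
      MorphismProperty.pullback_map (P := @QuasiCompact) inferInstance inferInstance e e⟩
  haveI := hprod.1
  haveI := hprod.2.1
  haveI := hprod.2.2
  haveI : Epi (Red.DSmap U φ ⊗ₘ Red.DSmap U φ).left := (hasCovLift_of _ _ _).epi
  haveI : Epi (Red.DSmap U φ ⊗ₘ Red.DSmap U φ) := Over.epi_of_epi_left _
  haveI : Epi (Red.DSmap U φ) := Over.epi_of_epi_left _
  have hφm : IsMonHom (Red.DSmap U φ) := isMonHom_DSmap φ
  have hhm : IsMonHom h := inferInstance
  refine ⟨?_, ?_⟩
  · rw [← hφm.one_hom, Category.assoc, hm, hhm.one_hom]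
  · rw [← cancel_epi (Red.DSmap U φ ⊗ₘ Red.DSmap U φ), ← Category.assoc, ← hφm.mul_hom, Category.assoc, hm,
      hhm.mul_hom, ← Category.assoc, tensorHom_comp_tensorHom, hm]

end Groth.Agent.Cochar26
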