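import Groth.Agent.Cochar26.Factor
import Groth.Agent.SGA3cLib.CentralEqBasic
import Groth.Agent.SGA3cLib.TrivLocus
import Groth.Agent.SGA3cLib.MonoNhd
import Groth.Agent.SGA3cLib.HomDS
import Groth.Agent.IsoTriv.MultTypeComm
import Groth.Agent.IsoTriv.SchemeBridge

/-! Homomorphisms from diagonalisable groups into a group of multiplicative type over a connected base are determined
by the maps of character groups at one geometric point. -/

set_option autoImplicit false
set_option backward.isDefEq.respectTransparency.types false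
set_option linter.style.haveILetI false

universe u

open CategoryTheory CategoryTheory.Limits MonoidalCategory CartesianMonoidalCategory MonObj AlgebraicGeometry

noncomputable section

namespace Groth.Agent.Cochar26

open SGA3cLib

variable {S : Scheme.{u}}

theorem exists_id_cover (S : Scheme.{u}) (M : Type) [AddCommGroup M] (s : S) :
    ∃ U : S.Opens, s ∈ U ∧ Nonempty (Grp.mk (Red.bc (U.ι ≫ 𝟙 S) (Red.DS S M)) ≅ Grp.mk (Red.DS (U : Scheme.{u}) M)) := by
  obtain ⟨c, hc, -⟩ := CentralEq.exists_bc_DS ((⊤ : S.Opens).ι ≫ 𝟙 S)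
  haveI := hc M
  exact ⟨⊤, trivial, ⟨Grp.mkIso (c M) (IsMonHom.one_hom _) (IsMonHom.mul_hom _)⟩⟩

theorem id_cover (S : Scheme.{u}) (V : S.Opens) (hV : IsAffineOpen V) :
    ∃ W : S.Opens, IsCompact (W : Set S) ∧ (𝟙 S : S ⟶ S).base '' (W : Set S) = (V : Set S) :=
  ⟨V, hV.isCompact, by simp⟩

theorem isMultTypeFT_DS (S : Scheme.{u}) (M : Type) [AddCommGroup M] [AddGroup.FG M] :
    SGA3x.IsMultTypeFT (Red.DS S M) := by
  refine ⟨S, 𝟙 S, inferInstance, inferInstance, id_cover S, fun s => ?_⟩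
  obtain ⟨U, hs, h⟩ := exists_id_cover S M s
  exact ⟨U, hs, M, inferInstance, inferInstance, h⟩

theorem locallyFpqc_DS (S : Scheme.{u}) (M : Type) [AddCommGroup M] :
    TwC.Locally S TwC.Topology.fpqc (fun S' g => ∃ (M' : Type) (_ : AddCommGroup M'),
      Nonempty (Grp.mk (Red.bc g (Red.DS S M)) ≅ Grp.mk (Red.DS S' M'))) := by
  refine ⟨S, 𝟙 S, inferInstance, inferInstance, id_cover S, fun s => ?_⟩
  obtain ⟨U, hs, h⟩ := exists_id_cover S M s
  exact ⟨U, hs, M, inferInstance, h⟩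

theorem DSmap_injective {U : Scheme.{u}} [Nonempty U] {M N : Type} [AddCommGroup M] [AddCommGroup N] {φ ψ : N →+ M}
    (h : Red.DSmap U φ = Red.DSmap U ψ) : φ = ψ :=
  HomDS.eq_of_points (W := 𝟙_ (Over U)) ‹Nonempty U› fun _ _ p => by rw [h]

/-- Characters of homomorphisms from diagonalisable groups, read at one geometric point. -/
structure FibreChar (G : Over S) [GrpObj G] where
  N : Type
  [ag : AddCommGroup N]
  fg : AddGroup.FG N
  Φ : ∀ {M : Type} [AddCommGroup M] (h : Red.DS S M ⟶ G) [IsMonHom h], N →+ M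
  comp : ∀ {M P : Type} [AddCommGroup M] [AddCommGroup P] (ψ : P →+ M) (h : Red.DS S P ⟶ G) [IsMonHom h]
    [IsMonHom (Red.DSmap S ψ ≫ h)], Φ (Red.DSmap S ψ ≫ h) = ψ.comp (Φ h)
  mul : ∀ {M : Type} [AddCommGroup M] (h h' : Red.DS S M ⟶ G) [IsMonHom h] [IsMonHom h'] [IsMonHom (h * h')],
    Φ (h * h') = Φ h + Φ h'
  eq_one : ∀ {M : Type} [AddCommGroup M] [AddGroup.FG M] (h : Red.DS S M ⟶ G) [IsMonHom h], Φ h = 0 → h = 1
  mono : ∀ {M : Type} [AddCommGroup M] [AddGroup.FG M] (h : Red.DS S M ⟶ G) [IsMonHom h],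
    Function.Surjective (Φ h) → Mono h

attribute [instance] FibreChar.ag

theorem mem_of_connected [PreconnectedSpace S] {U : S.Opens} (hU : IsClosed (U : Set S)) {s : S} (hs : s ∈ U) :
    ∀ x : S, x ∈ U := fun x => by
  have h : (U : Set S) = Set.univ := IsClopen.eq_univ ⟨hU, U.2⟩ ⟨s, hs⟩
  exact h.symm.subset trivial

theorem exists_lift_top {U : S.Opens} (h : ∀ x : S, x ∈ U) (X : Over S) : Nonempty (X ⟶ Over.mk U.ι) := by
  have hr : Set.range X.hom ⊆ Set.range U.ι := by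
    rw [Scheme.Opens.range_ι]
    exact fun x _ => h x
  exact ⟨Over.homMk (IsOpenImmersion.lift U.ι X.hom hr) (IsOpenImmersion.lift_fac _ _ _)⟩

theorem exists_fibreChar [ConnectedSpace S] {G : Over S} [GrpObj G] (hG : SGA3x.IsMultTypeFT G) :
    Nonempty (FibreChar G) := by
  haveI := IsoTriv.SchemeBridge.isAffineHom_of_multTypeFT G hG
  haveI : IsSeparated G.hom := inferInstance
  haveI := TrivLocus.locallyOfFinitePresentation_of_multTypeFT G hG
  obtain ⟨s₀⟩ := (inferInstance : Nonempty S)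
  obtain ⟨S', f, -, hsu, -, hU⟩ := id hG
  obtain ⟨s', -⟩ := hsu.surj s₀
  obtain ⟨U, hsU, M₀, _, hM₀, ⟨e⟩⟩ := hU s'
  obtain ⟨x₀, -⟩ : ∃ x : (U : Scheme.{u}), x = x := ⟨⟨s', hsU⟩, rfl⟩
  obtain ⟨K, _, ⟨k₀⟩⟩ : ∃ (K : Type u) (_ : Field K), Nonempty (Spec (CommRingCat.of K) ⟶ (U : Scheme.{u})) :=
    ⟨(U : Scheme.{u}).residueField x₀, inferInstance, ⟨(U : Scheme.{u}).fromSpecResidueField x₀⟩⟩
  let ω : Spec (CommRingCat.of K) ⟶ S := k₀ ≫ U.ι ≫ f
  let pt₀ : Spec (CommRingCat.of K) := default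
  obtain ⟨i, hi, -⟩ := GrpBC.nonempty_iso_restrict (U.ι ≫ f) k₀ ω rfl G e
  haveI := hi
  obtain ⟨c, hc, hnat⟩ := CentralEq.exists_bc_DS ω
  have hex : ∀ {M : Type} [AddCommGroup M] (h : Red.DS S M ⟶ G) [IsMonHom h], ∃ φ : M₀ →+ M,
      (Over.pullback ω).map h ≫ i.hom = (c M).hom ≫ Red.DSmap (Spec (CommRingCat.of K)) φ := by
    intro M _ h _
    haveI := hc M
    haveI : IsMonHom (c M).inv := inferInstance
    let v : Red.DS (Spec (CommRingCat.of K)) M ⟶ Red.DS (Spec (CommRingCat.of K)) M₀ :=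
      (c M).inv ≫ (Over.pullback ω).map h ≫ i.hom
    haveI : IsMonHom v := inferInstance
    obtain ⟨V, φ, hxV, hV⟩ := DSHom.exists_eq_DSmap v pt₀
    refine ⟨φ, ?_⟩
    have h2 := hV (Red.DS (Spec (CommRingCat.of K)) M) (fun y _ => by
      rwa [Subsingleton.elim y pt₀]) (𝟙 _)
    rw [Category.id_comp, Category.id_comp] at h2
    rw [← h2]
    simp [v]
  let Φ : ∀ {M : Type} [AddCommGroup M] (h : Red.DS S M ⟶ G) [IsMonHom h], M₀ →+ M :=
    fun {M} _ h _ => (hex h).choose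
  have hΦ : ∀ {M : Type} [AddCommGroup M] (h : Red.DS S M ⟶ G) [IsMonHom h],
      (Over.pullback ω).map h ≫ i.hom = (c M).hom ≫ Red.DSmap (Spec (CommRingCat.of K)) (Φ h) :=
    fun {M} _ h _ => (hex h).choose_spec
  refine ⟨{ N := M₀, fg := hM₀, Φ := Φ, comp := ?_, mul := ?_, eq_one := ?_, mono := ?_ }⟩
  · intro M P _ _ ψ h _ _
    refine DSmap_injective (U := Spec (CommRingCat.of K)) ((cancel_epi (c M).hom).mp ?_)
    rw [← hΦ, ← DSmap_comp, ← Category.assoc, ← hnat M P ψ, Category.assoc, ← hΦ h, Functor.map_comp, Category.assoc]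
  · intro M _ h h' _ _ _
    refine DSmap_injective (U := Spec (CommRingCat.of K)) ((cancel_epi (c M).hom).mp ?_)
    rw [← hΦ, DSmap_add, MonObj.comp_mul, ← hΦ h, ← hΦ h', Functor.map_mul]
    exact MonObj.mul_comp _ _ i.hom
  · intro M _ _ h _ h0
    have h1 := hΦ h
    rw [h0, DSmap_zero, MonObj.comp_one] at h1
    have h2 : (Over.pullback ω).map h = 1 := by
      exact (cancel_mono i.hom).mp (h1.trans (MonObj.one_comp i.hom).symm)
    have h3 : TrivLocus.Triv h ω := (TrivLocus.triv_iff_map h ω).mpr h2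
    obtain ⟨W, hWc, hW, hWt⟩ := TrivLocus.exists_clopen h (Or.inr inferInstance) (isMultTypeFT_DS S M)
    have h4 := mem_of_connected hWc ((hW _).mpr ((TrivLocus.triv_field h ω pt₀).mp h3))
    obtain ⟨p⟩ := exists_lift_top h4 (Red.DS S M)
    simpa using hWt _ p (𝟙 _)
  · intro M _ _ h _ hsurj
    haveI : Mono (Red.DSmap (Spec (CommRingCat.of K)) (Φ h)).left := MultHomLocus.mono_of_surjective (Φ h) hsurj _
    haveI : Mono (Red.DSmap (Spec (CommRingCat.of K)) (Φ h)) := Over.mono_of_mono_left _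
    haveI : Mono ((Over.pullback ω).map h) := by
      have h1 : Mono ((Over.pullback ω).map h ≫ i.hom) := by rw [hΦ]; infer_instance
      exact mono_of_mono _ i.hom
    have h2 : MonoNhd.KTriv h ω := MonoNhd.kTriv_of_mono h ω inferInstance
    have h3 := MonoNhd.mono_of_kTriv h _ ((MonoNhd.kTriv_field h ω pt₀).mp h2)
    obtain ⟨W, hWc, hW, hWm⟩ := MultHomLocus.exists_clopen (MorphismProperty.monomorphisms Scheme.{u})
      (fun M N _ _ φ => Function.Surjective φ) (fun M N _ _ φ hφ U => MultHomLocus.mono_of_surjective φ hφ U)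
      (fun M N _ _ φ U K _ k hk => MultHomLocus.surjective_of_mono φ k hk)
      (Red.DS S M) G (locallyFpqc_DS S M) hG h
    have h4 := mem_of_connected hWc ((hW _).mpr h3)
    have h5 : MonoNhd.KTriv h W.ι := MonoNhd.kTriv_of_mono h _ hWm
    refine ⟨fun {X} a b hab => ?_⟩
    obtain ⟨p⟩ := exists_lift_top h4 X
    have h6 : (a * b⁻¹) ≫ h = 1 := by rw [MonObj.mul_comp, GrpObj.inv_comp, hab, mul_inv_cancel]
    exact mul_inv_eq_one.mp (h5 X p _ h6)

end Groth.Agent.Cochar26
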