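import Groth.Agent.Cochar26.FibreChar
import Mathlib.RingTheory.SimpleModule.Basic
import Mathlib.LinearAlgebra.FreeModule.PID

/-! The greatest split subtorus of a group of multiplicative type over a connected base: its cocharacter lattice is
saturated and of finite rank. -/

set_option autoImplicit false
set_option backward.isDefEq.respectTransparency.types false
set_option linter.style.haveILetI false

universe u

open CategoryTheory CategoryTheory.Limits MonoidalCategory CartesianMonoidalCategory MonObj AlgebraicGeometry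

noncomputable section

namespace Groth.Agent.Cochar26

open SGA3cLib

variable {S : Scheme.{u}} {G : Over S} [GrpObj G]

theorem isMonHom_mul (hc : ∀ (X : Over S) (a b : X ⟶ G), a * b = b * a) {H : Over S} [GrpObj H] (h h' : H ⟶ G)
    [IsMonHom h] [IsMonHom h'] : IsMonHom (h * h') :=
  BCPoints.isMonHom_of_mul _ fun X x y => by
    letI : CommGroup (X ⟶ G) := { (inferInstance : Group (X ⟶ G)) with mul_comm := hc X }
    rw [MonObj.comp_mul, MonObj.comp_mul, MonObj.comp_mul, MonObj.mul_comp x y h, MonObj.mul_comp x y h',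
      _root_.mul_mul_mul_comm]

theorem isMonHom_inv (hc : ∀ (X : Over S) (a b : X ⟶ G), a * b = b * a) {H : Over S} [GrpObj H] (h : H ⟶ G)
    [IsMonHom h] : IsMonHom h⁻¹ :=
  BCPoints.isMonHom_of_mul _ fun X x y => by
    rw [GrpObj.comp_inv, GrpObj.comp_inv, GrpObj.comp_inv, MonObj.mul_comp x y h, mul_inv_rev]
    exact hc X _ _

theorem isMonHom_one' {H : Over S} [GrpObj H] : IsMonHom (1 : H ⟶ G) :=
  BCPoints.isMonHom_of_mul _ fun X x y => by
    rw [MonObj.comp_one, MonObj.comp_one, MonObj.comp_one, _root_.mul_one]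

variable (F : FibreChar G) (hc : ∀ (X : Over S) (a b : X ⟶ G), a * b = b * a)

theorem Φ_congr {M : Type} [AddCommGroup M] {h h' : Red.DS S M ⟶ G} [IsMonHom h] [IsMonHom h'] (e : h = h') :
    F.Φ h = F.Φ h' := by
  subst e; rfl

theorem Φ_one {M : Type} [AddCommGroup M] :
    letI : IsMonHom (1 : Red.DS S M ⟶ G) := isMonHom_one'
    F.Φ (1 : Red.DS S M ⟶ G) = 0 := by
  letI : IsMonHom (1 : Red.DS S M ⟶ G) := isMonHom_one'
  haveI : IsMonHom ((1 : Red.DS S M ⟶ G) * 1) := by rw [_root_.one_mul]; infer_instance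
  have h := F.mul (1 : Red.DS S M ⟶ G) 1
  rw [Φ_congr F (_root_.one_mul (1 : Red.DS S M ⟶ G))] at h
  exact left_eq_add.mp h

include hc in
theorem Φ_inv {M : Type} [AddCommGroup M] (h : Red.DS S M ⟶ G) [IsMonHom h] :
    letI : IsMonHom h⁻¹ := isMonHom_inv hc h
    F.Φ h⁻¹ = -F.Φ h := by
  letI : IsMonHom h⁻¹ := isMonHom_inv hc h
  letI : IsMonHom (1 : Red.DS S M ⟶ G) := isMonHom_one'
  haveI : IsMonHom (h * h⁻¹) := isMonHom_mul hc h h⁻¹
  have h1 := F.mul h h⁻¹
  rw [Φ_congr F (mul_inv_cancel h), Φ_one F] at h1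
  exact (neg_eq_of_add_eq_zero_right h1.symm).symm

include hc in
theorem eq_of_Φ_eq {M : Type} [AddCommGroup M] [AddGroup.FG M] {h h' : Red.DS S M ⟶ G} [IsMonHom h] [IsMonHom h']
    (e : F.Φ h = F.Φ h') : h = h' := by
  letI : IsMonHom h'⁻¹ := isMonHom_inv hc h'
  haveI : IsMonHom (h * h'⁻¹) := isMonHom_mul hc h h'⁻¹
  refine mul_inv_eq_one.mp (F.eq_one _ ?_)
  rw [F.mul, Φ_inv F hc, e, add_neg_cancel]

include hc in
theorem exists_sum {M : Type} [AddCommGroup M] {I : Type} (t : Finset I) (h : I → (Red.DS S M ⟶ G))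
    [∀ i, IsMonHom (h i)] :
    ∃ (k : Red.DS S M ⟶ G) (_ : IsMonHom k), F.Φ k = ∑ i ∈ t, F.Φ (h i) := by
  classical
  induction t using Finset.induction_on with
  | empty => exact ⟨1, isMonHom_one', by rw [Φ_one F, Finset.sum_empty]⟩
  | insert i t hit ih =>
    obtain ⟨k, hk, e⟩ := ih
    haveI := isMonHom_mul hc (h i) k
    exact ⟨h i * k, this, by rw [F.mul, e, Finset.sum_insert hit]⟩

include hc in
/-- The cocharacters read at the geometric point. -/
def cocharLattice : AddSubgroup (F.N →+ ℤ) where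
  carrier := {a | ∃ (l : Red.Gm S ⟶ G) (_ : IsMonHom l), F.Φ l = a}
  add_mem' := by
    rintro _ _ ⟨l, _, rfl⟩ ⟨l', _, rfl⟩
    haveI := isMonHom_mul hc l l'
    exact ⟨l * l', this, F.mul l l'⟩
  zero_mem' := ⟨1, isMonHom_one', Φ_one F⟩
  neg_mem' := by
    rintro _ ⟨l, _, rfl⟩
    exact ⟨l⁻¹, isMonHom_inv hc l, Φ_inv F hc l⟩

include hc in
/-- The cocharacter lattice is saturated. -/
theorem mem_of_zsmul_mem {p : ℤ} (hp : p ≠ 0) (a : F.N →+ ℤ) (h : p • a ∈ cocharLattice F hc) :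
    a ∈ cocharLattice F hc := by
  obtain ⟨l, _, hl⟩ := h
  let φ : ℤ →+ ℤ := zmultiplesHom ℤ p
  have hφ : Function.Injective φ := fun x y hxy => mul_right_cancel₀ hp (by simpa [φ] using hxy)
  haveI : IsMonHom (Red.DSmap S (QuotientAddGroup.mk' φ.range) ≫ l) := inferInstance
  obtain ⟨m, hm, hml⟩ := exists_factor hφ l (F.eq_one _ (by
    rw [F.comp, hl]
    ext n
    exact (QuotientAddGroup.eq_zero_iff _).mpr ⟨a n, by simp [φ, mul_comm]⟩))
  refine ⟨m, hm, ?_⟩
  haveI : IsMonHom (Red.DSmap S φ ≫ m) := inferInstance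
  have h1 := F.comp φ m
  rw [Φ_congr F hml, hl] at h1
  ext n
  have h2 := DFunLike.congr_fun h1 n
  simp [φ] at h2
  exact mul_left_cancel₀ hp (h2.trans (mul_comm _ _)).symm

/-- A free basis of a group of integral functionals. -/
theorem exists_basis {N : Type} [AddCommGroup N] [AddGroup.FG N] (L : AddSubgroup (N →+ ℤ)) :
    ∃ (r : ℕ) (a : Fin r → (N →+ ℤ)), (∀ i, a i ∈ L) ∧ (∀ c : Fin r → ℤ, ∑ i, c i • a i = 0 → c = 0) ∧
      ∀ x ∈ L, ∃ d : Fin r → ℤ, ∑ i, d i • a i = x := by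
  haveI : Module.Finite ℤ N := Module.Finite.iff_addGroup_fg.mpr inferInstance
  obtain ⟨k, π, hπ⟩ := Module.Finite.exists_fin' ℤ N
  let ev : (N →+ ℤ) →ₗ[ℤ] (Fin k → ℤ) :=
    { toFun := fun a i => a (π (Pi.single i 1))
      map_add' := fun a b => rfl
      map_smul' := fun c a => rfl }
  have hev : Function.Injective ev := by
    rw [injective_iff_map_eq_zero]
    intro a ha
    ext n
    obtain ⟨v, rfl⟩ := hπ n
    have h1 : (a.toIntLinearMap.comp π) = 0 := (Pi.basisFun ℤ (Fin k)).ext fun i => by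
      simpa [ev] using congrFun ha i
    exact LinearMap.congr_fun h1 v
  obtain ⟨r, b⟩ := Submodule.basisOfPid (Pi.basisFun ℤ (Fin k)) ((AddSubgroup.toIntSubmodule L).map ev)
  choose a ha hae using fun i => Submodule.mem_map.mp (b i).2
  refine ⟨r, a, ha, fun c hc' => ?_, fun x hx => ?_⟩
  · have h1 : ∑ i, c i • b i = 0 := by
      apply Subtype.ext
      have h2 := congrArg ev hc'
      simpa [map_sum, hae] using h2
    exact funext (Fintype.linearIndependent_iff.mp b.linearIndependent c h1)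
  · refine ⟨fun i => b.repr ⟨ev x, ⟨x, hx, rfl⟩⟩ i, hev ?_⟩
    have h2 := congrArg Subtype.val (b.sum_repr ⟨ev x, ⟨x, hx, rfl⟩⟩)
    rw [map_sum]
    refine Eq.trans ?_ h2
    rw [AddSubmonoidClass.coe_finsetSum]
    refine Finset.sum_congr rfl fun i _ => ?_
    rw [map_smul, hae]
    rfl

/-- The single and evaluation maps of `ℤ^r`. -/
def sgl {r : ℕ} (i : Fin r) : ℤ →+ (Fin r → ℤ) := AddMonoidHom.single (fun _ => ℤ) i

include F hc in
/-- The greatest split subtorus: every homomorphism from a split torus factors through it. -/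
theorem exists_greatest_of_fibreChar : ∃ (r : ℕ) (j : Red.DS S (Fin r → ℤ) ⟶ G), IsMonHom j ∧ Mono j ∧
    ∀ (r' : ℕ) (h : Red.DS S (Fin r' → ℤ) ⟶ G) [IsMonHom h],
      ∃ g : Red.DS S (Fin r' → ℤ) ⟶ Red.DS S (Fin r → ℤ), IsMonHom g ∧ g ≫ j = h := by
  classical
  haveI := F.fg
  obtain ⟨r, a, ha, hind, hspan⟩ := exists_basis (cocharLattice F hc)
  have hai := ha
  choose l hl hla using ha
  haveI := hl
  obtain ⟨j, hj, hΦj⟩ := exists_sum F hc Finset.univ (fun i => Red.DSmap S (sgl i) ≫ l i)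
  haveI := hj
  have hα : ∀ (n : F.N) (i : Fin r), F.Φ j n i = a i n := fun n i => by
    rw [hΦj, AddMonoidHom.finsetSum_apply, Finset.sum_apply]
    simp only [F.comp, hla, AddMonoidHom.comp_apply, sgl, AddMonoidHom.single_apply]
    simp
  have hsurj : Function.Surjective (F.Φ j) := by
    rw [← AddMonoidHom.range_eq_top]
    by_contra hne
    let J : Submodule ℤ (Fin r → ℤ) := AddSubgroup.toIntSubmodule (F.Φ j).range
    obtain ⟨K, hK, hJK⟩ := (eq_top_or_exists_le_coatom J).resolve_left fun h => hne (by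
      simpa [J] using congrArg Submodule.toAddSubgroup h)
    haveI : IsSimpleModule ℤ ((Fin r → ℤ) ⧸ K) := isSimpleModule_iff_isCoatom.mpr hK
    obtain ⟨I, hI, ⟨e⟩⟩ := isSimpleModule_iff_quot_maximal.mp ‹IsSimpleModule ℤ ((Fin r → ℤ) ⧸ K)›
    let f : (Fin r → ℤ) →ₗ[ℤ] ℤ ⧸ I := e.toLinearMap.comp K.mkQ
    obtain ⟨p, rfl⟩ : ∃ p, I = Ideal.span {p} := ⟨_, (Ideal.span_singleton_generator I).symm⟩
    have hp : p ≠ 0 := by
      rintro rfl
      exact Ring.ne_bot_of_isMaximal_of_not_isField hI (fun h => Int.not_isField h) (by simp)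
    choose c hcl using fun i => Ideal.Quotient.mk_surjective (f (Pi.single i 1))
    have hf : ∀ v, f v = Ideal.Quotient.mk _ (∑ i, v i * c i) := fun v => by
      have : v = ∑ i, v i • (Pi.single i 1 : Fin r → ℤ) := by
        ext k; simp [Pi.single_apply]
      conv_lhs => rw [this]
      rw [map_sum, map_sum]
      refine Finset.sum_congr rfl fun i _ => ?_
      rw [map_smul, ← hcl, map_mul, Algebra.smul_def]
      rfl
    have hdvd : ∀ n : F.N, p ∣ (∑ i, c i • a i) n := fun n => by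
      have h1 : f (F.Φ j n) = 0 := by
        show e (K.mkQ _) = 0
        rw [show K.mkQ (F.Φ j n) = 0 from (Submodule.Quotient.mk_eq_zero K).mpr (hJK ⟨n, rfl⟩), map_zero]
      rw [hf, Ideal.Quotient.eq_zero_iff_mem, Ideal.mem_span_singleton] at h1
      simpa [hα, mul_comm, AddMonoidHom.finsetSum_apply] using h1
    choose q hq using hdvd
    let μ₀ : F.N →+ ℤ := AddMonoidHom.mk' q fun x y => mul_left_cancel₀ hp (by
      rw [mul_add, ← hq, ← hq, ← hq, map_add])
    obtain ⟨d, hd⟩ := hspan μ₀ (mem_of_zsmul_mem F hc hp μ₀ (by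
      have h2 : p • μ₀ = ∑ i, c i • a i := by
        ext n
        show p • q n = _
        rw [hq, smul_eq_mul]
      rw [h2]
      exact AddSubgroup.sum_mem _ fun i _ => AddSubgroup.zsmul_mem _ (hai i) _))
    have h3 := hind (fun i => c i - p * d i) (by
      ext n
      have h4 : (∑ i, d i • a i) n = q n := DFunLike.congr_fun hd n
      simp only [AddMonoidHom.finsetSum_apply, AddMonoidHom.smul_apply, smul_eq_mul, AddMonoidHom.zero_apply] at h4 hq ⊢
      have h5 := hq n
      rw [← h4, Finset.mul_sum] at h5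
      simp only [sub_mul, Finset.sum_sub_distrib, _root_.mul_assoc, h5, sub_self])
    have hf0 : ∀ v, f v = 0 := fun v => by
      rw [hf, Ideal.Quotient.eq_zero_iff_mem, Ideal.mem_span_singleton]
      refine Finset.dvd_sum fun i _ => Dvd.dvd.mul_left ⟨d i, ?_⟩ _
      exact sub_eq_zero.mp (congrFun h3 i)
    haveI : Nontrivial (ℤ ⧸ Ideal.span {p}) := Ideal.Quotient.nontrivial_iff.mpr hI.ne_top
    obtain ⟨v, hv⟩ := (show Function.Surjective f from e.surjective.comp K.mkQ_surjective) 1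
    exact zero_ne_one ((hf0 v).symm.trans hv)
  refine ⟨r, j, hj, F.mono j hsurj, fun r' h _ => ?_⟩
  have hmem : ∀ k : Fin r', (Pi.evalAddMonoidHom (fun _ : Fin r' => ℤ) k).comp (F.Φ h) ∈ cocharLattice F hc :=
    fun k => ⟨_, (inferInstance : IsMonHom (Red.DSmap S (Pi.evalAddMonoidHom (fun _ : Fin r' => ℤ) k) ≫ h)), F.comp _ h⟩
  choose d hd using fun k => hspan _ (hmem k)
  let ψ : (Fin r → ℤ) →+ (Fin r' → ℤ) := AddMonoidHom.mk' (fun x k => ∑ i, d k i * x i) fun x y => by
    ext k; simp [mul_add, Finset.sum_add_distrib]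
  refine ⟨Red.DSmap S ψ, inferInstance, eq_of_Φ_eq F hc ?_⟩
  rw [F.comp]
  ext n k
  have h1 := DFunLike.congr_fun (hd k) n
  simpa [ψ, hα, AddMonoidHom.finsetSum_apply] using h1

/-- The greatest split subtorus over a connected base. -/
theorem exists_greatest [ConnectedSpace S] (hG : SGA3x.IsMultTypeFT G) :
    ∃ (r : ℕ) (j : Red.DS S (Fin r → ℤ) ⟶ G), IsMonHom j ∧ Mono j ∧
      ∀ (r' : ℕ) (h : Red.DS S (Fin r' → ℤ) ⟶ G) [IsMonHom h],
        ∃ g : Red.DS S (Fin r' → ℤ) ⟶ Red.DS S (Fin r → ℤ), IsMonHom g ∧ g ≫ j = h := by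
  obtain ⟨F⟩ := exists_fibreChar hG
  exact exists_greatest_of_fibreChar F fun X a b => IsoTriv.mul_comm_of_multTypeFT hG a b

end Groth.Agent.Cochar26
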