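import Groth.Agent.Cochar26.FibreChar
import Groth.Agent.SGA3cLib.MTTransporterSub
import Groth.Agent.SGA3cLib.CentralDescent

/-! Images of homomorphisms from diagonalisable groups into groups of multiplicative type, near a point. -/

set_option autoImplicit false
set_option backward.isDefEq.respectTransparency.types false
set_option linter.style.haveILetI false

universe u

open CategoryTheory CategoryTheory.Limits MonoidalCategory CartesianMonoidalCategory MonObj AlgebraicGeometry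

noncomputable section

namespace Groth.Agent.Cochar26

open SGA3cLib

variable {S : Scheme.{u}}


theorem hasCovLift_DSmap {U : Scheme.{u}} {M N : Type} [AddCommGroup M] [AddCommGroup N] {φ : N →+ M}
    (hφ : Function.Injective φ) : HasCovLift (Red.DSmap U φ).left := by
  have hff := MultHomLocus.ff_of_injective φ hφ U
  haveI : Flat (Red.DSmap U φ).left := hff.1
  haveI : Surjective (Red.DSmap U φ).left := hff.2
  exact hasCovLift_of _ _ _

/-- A homomorphism factored through a surjective restriction has trivial kernel at a point if its character map there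
is onto. -/
theorem kTriv_factor {M : Type} [AddCommGroup M] {G : Over S} [GrpObj G] (u : Red.DS S M ⟶ G) [IsMonHom u]
    (L : AddSubgroup M) {U : S.Opens} (m : Red.DS (U : Scheme.{u}) L ⟶ Red.bc U.ι G) [IsMonHom m]
    (cM : Red.bc U.ι (Red.DS S M) ≅ Red.DS (U : Scheme.{u}) M) [IsMonHom cM.hom]
    (cL : Red.bc U.ι (Red.DS S L) ≅ Red.DS (U : Scheme.{u}) L) [IsMonHom cL.hom]
    (hnat : (Over.pullback U.ι).map (Red.DSmap S L.subtype) ≫ cL.hom =
      cM.hom ≫ Red.DSmap (U : Scheme.{u}) L.subtype)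
    (hm : Red.DSmap (U : Scheme.{u}) L.subtype ≫ m = cM.inv ≫ (Over.pullback U.ι).map u)
    {T : Scheme.{u}} (ω : T ⟶ (U : Scheme.{u}))
    (h : ∀ (X : Over S) (_ : X ⟶ Over.mk (ω ≫ U.ι)) (y : X ⟶ Red.DS S M), y ≫ u = 1 →
      y ≫ Red.DSmap S L.subtype = 1) :
    MonoNhd.KTriv m ω := by
  intro X p x hx
  let q := Red.DSmap (U : Scheme.{u}) L.subtype
  let X' : Over (U : Scheme.{u}) := Over.mk (pullback.fst x.left q.left ≫ X.hom)
  let r : X' ⟶ X := Over.homMk (pullback.fst x.left q.left) rfl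
  let y : X' ⟶ Red.DS (U : Scheme.{u}) M := Over.homMk (pullback.snd x.left q.left) (by
    show pullback.snd x.left q.left ≫ _ = pullback.fst x.left q.left ≫ X.hom
    rw [← Over.w q, ← pullback.condition_assoc, Over.w x])
  have hy : y ≫ q = r ≫ x := Over.OverMorphism.ext pullback.condition.symm
  haveI : Epi r.left := ((hasCovLift_DSmap (U := (U : Scheme.{u})) L.subtype_injective).of_isPullback
    (IsPullback.of_hasPullback x.left q.left).flip).epi
  haveI : Epi r := Over.epi_of_epi_left _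
  obtain ⟨y₀, hy₀⟩ := (BCPoints.pt U.ι (Red.DS S M) X').surjective (y ≫ cM.inv)
  have h1 : y₀ ≫ u = 1 := (BCPoints.pt U.ι G X').injective (by
    rw [BCPoints.pt_comp, hy₀, Category.assoc, ← hm, ← Category.assoc, hy, Category.assoc, hx, MonObj.comp_one]
    exact (map_one (MonoidHom.mk' (BCPoints.pt U.ι G X') (BCPoints.pt_mul U.ι))).symm)
  have h2 := h _ (Over.homMk (r ≫ p).left (by
    show (r ≫ p).left ≫ ω ≫ U.ι = X'.hom ≫ U.ι
    rw [← Category.assoc]
    exact congrArg (· ≫ U.ι) (Over.w (r ≫ p)))) y₀ h1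
  have h3 : (y ≫ q) ≫ cL.inv = 1 := by
    have h4 : cM.inv ≫ (Over.pullback U.ι).map (Red.DSmap S L.subtype) = q ≫ cL.inv := by
      rw [← cancel_mono cL.hom, Category.assoc, hnat, Iso.inv_hom_id_assoc, Category.assoc, Iso.inv_hom_id,
        Category.comp_id]
    rw [Category.assoc, ← h4, ← Category.assoc, ← hy₀, ← BCPoints.pt_comp, h2]
    exact map_one (MonoidHom.mk' (BCPoints.pt U.ι (Red.DS S L) X') (BCPoints.pt_mul U.ι))
  haveI : IsMonHom cL.inv := inferInstance
  rw [← cancel_epi r, ← hy, MonObj.comp_one]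
  exact (cancel_mono cL.inv).mp (h3.trans (MonObj.one_comp cL.inv).symm)

/-- A homomorphism from a diagonalisable group with trivial kernel at a point is a monomorphism nearby. -/
theorem exists_mono_open {U : Scheme.{u}} {L : Type} [AddCommGroup L] {Q : Over U} [GrpObj Q]
    (hQ : SGA3x.IsMultTypeFT Q) (m : Red.DS U L ⟶ Q) [IsMonHom m] {K : Type u} [Field K]
    (ω : Spec (CommRingCat.of K) ⟶ U) (p₀ : Spec (CommRingCat.of K)) (h : MonoNhd.KTriv m ω) :
    ∃ W : U.Opens, ω p₀ ∈ W ∧ Mono ((Over.pullback W.ι).map m).left := by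
  obtain ⟨W, -, hW, hWm⟩ := MultHomLocus.exists_clopen (MorphismProperty.monomorphisms Scheme.{u})
    (fun M N _ _ φ => Function.Surjective φ) (fun M N _ _ φ hφ U => MultHomLocus.mono_of_surjective φ hφ U)
    (fun M N _ _ φ U K _ k hk => MultHomLocus.surjective_of_mono φ k hk)
    (Red.DS U L) Q (locallyFpqc_DS _ _) hQ m
  exact ⟨W, (hW _).mpr (MonoNhd.mono_of_kTriv m _ ((MonoNhd.kTriv_field m ω p₀).mp h)), hWm⟩

set_option maxHeartbeats 1000000 in
/-- Near every point the image of a homomorphism from a diagonalisable group of finite type is diagonalisable. -/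
theorem exists_local_image {M : Type} [AddCommGroup M] [AddGroup.FG M] {G : Over S} [GrpObj G]
    (hG : SGA3x.IsMultTypeFT G) (u : Red.DS S M ⟶ G) [IsMonHom u] (s : S) :
    ∃ (W : S.Opens) (L : AddSubgroup M) (j : Red.DS (W : Scheme.{u}) L ⟶ Red.bc W.ι G)
      (p : Red.bc W.ι (Red.DS S M) ⟶ Red.DS (W : Scheme.{u}) L),
      s ∈ W ∧ IsMonHom j ∧ IsClosedImmersion j.left ∧ IsMonHom p ∧ HasCovLift p.left ∧
        p ≫ j = (Over.pullback W.ι).map u := by
  haveI := IsoTriv.SchemeBridge.isAffineHom_of_multTypeFT G hG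
  haveI := TrivLocus.locallyOfFinitePresentation_of_multTypeFT G hG
  obtain ⟨S', f, -, hsu, -, hU⟩ := id hG
  obtain ⟨s', hs'⟩ := hsu.surj s
  obtain ⟨V, hsV, N, _, hN, ⟨e⟩⟩ := hU s'
  obtain ⟨x₀, hx₀⟩ : ∃ x : (V : Scheme.{u}), V.ι x = s' := ⟨⟨s', hsV⟩, rfl⟩
  obtain ⟨K, _, k₀, p₀, hk₀⟩ : ∃ (K : Type u) (_ : Field K) (k : Spec (CommRingCat.of K) ⟶ (V : Scheme.{u}))
      (p : Spec (CommRingCat.of K)), k p = x₀ :=
    ⟨(V : Scheme.{u}).residueField x₀, inferInstance, (V : Scheme.{u}).fromSpecResidueField x₀,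
      IsLocalRing.closedPoint _, Scheme.fromSpecResidueField_apply _ _⟩
  let ω : Spec (CommRingCat.of K) ⟶ S := k₀ ≫ V.ι ≫ f
  have hωp : ω p₀ = s := by
    simp only [ω, Scheme.Hom.comp_apply, hk₀, hx₀, hs']
  obtain ⟨eG, heG, heG'⟩ := GrpBC.nonempty_iso_restrict (V.ι ≫ f) k₀ ω rfl G e
  obtain ⟨c, hc, hnat⟩ := CentralEq.exists_bc_DS ω
  haveI := hc M
  haveI := heG
  let T := Spec (CommRingCat.of K)
  haveI : IsMonHom (c M).inv := inferInstance
  let v : Red.DS T M ⟶ Red.DS T N := (c M).inv ≫ (Over.pullback ω).map u ≫ eG.hom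
  haveI : IsMonHom v := inferInstance
  obtain ⟨O, φ, hxO, hO⟩ := DSHom.exists_eq_DSmap v p₀
  have hv : (Over.pullback ω).map u ≫ eG.hom = (c M).hom ≫ Red.DSmap T φ := by
    have h2 := hO (Red.DS T M) (fun y _ => by rwa [Subsingleton.elim y p₀]) (𝟙 _)
    rw [Category.id_comp, Category.id_comp] at h2
    rw [← h2]
    simp [v]
  let L := φ.range
  let φ₀ : N →+ L := φ.rangeRestrict
  haveI : Mono (Red.DSmap T φ₀).left := MultHomLocus.mono_of_surjective φ₀ φ.rangeRestrict_surjective T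
  haveI : Mono (Red.DSmap T φ₀) := Over.mono_of_mono_left _
  have hφ₀ : L.subtype.comp φ₀ = φ := rfl
  -- the locus where the kernel of the restriction is killed
  let R := L.subtype.range
  let k : Red.DS S (M ⧸ R) ⟶ Red.DS S M := Red.DSmap S (QuotientAddGroup.mk' R)
  haveI := hc (M ⧸ R)
  have hkill : TrivLocus.Triv (k ≫ u) ω := by
    rw [TrivLocus.triv_iff_map]
    refine (cancel_mono eG.hom).mp (Eq.trans ?_ (MonObj.one_comp eG.hom).symm)
    rw [Functor.map_comp, Category.assoc, hv, ← Category.assoc, hnat, Category.assoc, DSmap_comp,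
      show (QuotientAddGroup.mk' R).comp φ = 0 from AddMonoidHom.ext fun n =>
        (QuotientAddGroup.eq_zero_iff _).mpr ⟨φ₀ n, rfl⟩, DSmap_zero, MonObj.comp_one]
  obtain ⟨U, hUc, hU, hUt⟩ := TrivLocus.exists_clopen (k ≫ u) (Or.inr inferInstance) (isMultTypeFT_DS S _)
  have hsU : s ∈ U := (hU s).mpr (hωp ▸ (TrivLocus.triv_field (k ≫ u) ω p₀).mp hkill)
  obtain ⟨c₁, hc₁, hnat₁⟩ := CentralEq.exists_bc_DS U.ι
  haveI := hc₁ M
  haveI := hc₁ L
  haveI := hc₁ (M ⧸ R)
  haveI : IsMonHom (c₁ M).inv := inferInstance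
  obtain ⟨m, hm, hmu⟩ := exists_factor (U := (U : Scheme.{u})) L.subtype_injective
      ((c₁ M).inv ≫ (Over.pullback U.ι).map u) (by
    rw [← cancel_epi (c₁ (M ⧸ R)).hom, ← Category.assoc, ← hnat₁, Category.assoc, Iso.hom_inv_id_assoc,
      ← Functor.map_comp, (TrivLocus.triv_iff_map _ _).mp hUt, MonObj.comp_one])
  haveI := hm
  -- the factorisation is a monomorphism at the point
  have hr : Set.range ω ⊆ Set.range U.ι := by
    rw [Scheme.Opens.range_ι]
    rintro _ ⟨y, rfl⟩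
    rw [Subsingleton.elim y p₀, hωp]
    exact hsU
  let ω₁ : T ⟶ (U : Scheme.{u}) := IsOpenImmersion.lift U.ι ω hr
  have hω₁ : ω₁ ≫ U.ι = ω := IsOpenImmersion.lift_fac _ _ _
  have hkt : MonoNhd.KTriv m ω₁ := by
    refine kTriv_factor u L m (c₁ M) (c₁ L) (hnat₁ _ _ _) hmu ω₁ fun X p y hy => ?_
    rw [hω₁] at p
    let κ : X ⟶ (Over.map ω).obj (Over.mk p.left) := Over.homMk (𝟙 _) ((Category.id_comp _).trans (Over.w p))
    let κ' : (Over.map ω).obj (Over.mk p.left) ⟶ X := Over.homMk (𝟙 _) ((Category.id_comp _).trans (Over.w p).symm)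
    have hκ : κ ≫ κ' = 𝟙 X := Over.OverMorphism.ext (Category.id_comp _)
    let y' := BCPoints.pt ω (Red.DS S M) _ (κ' ≫ y)
    have h1 : y' ≫ (Over.pullback ω).map u = 1 := by
      rw [← BCPoints.pt_comp, Category.assoc, hy, MonObj.comp_one]
      exact map_one (MonoidHom.mk' (BCPoints.pt ω G _) (BCPoints.pt_mul ω))
    have h2 : y' ≫ (c M).hom ≫ Red.DSmap T L.subtype = 1 := by
      refine (cancel_mono (Red.DSmap T φ₀)).mp (Eq.trans ?_ (MonObj.one_comp (Red.DSmap T φ₀)).symm)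
      rw [Category.assoc, Category.assoc, DSmap_comp, hφ₀, ← hv, ← Category.assoc, h1]
      exact MonObj.one_comp eG.hom
    haveI := hc L
    have h3 : (κ' ≫ y) ≫ Red.DSmap S L.subtype = 1 := (BCPoints.pt ω (Red.DS S L) _).injective (by
      refine Eq.trans ?_ (map_one (MonoidHom.mk' (BCPoints.pt ω (Red.DS S L) _) (BCPoints.pt_mul ω))).symm
      rw [BCPoints.pt_comp]
      refine (cancel_mono (c L).hom).mp (Eq.trans ?_ (MonObj.one_comp (c L).hom).symm)
      rw [Category.assoc, hnat, h2])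
    calc y ≫ Red.DSmap S L.subtype = κ ≫ (κ' ≫ y) ≫ Red.DSmap S L.subtype := by
          rw [Category.assoc, reassoc_of% hκ]
      _ = 1 := by rw [h3, MonObj.comp_one]
  have hG₁ := SGA3cLib.CentralDescent.isMultTypeFT_bc U.ι G hG
  obtain ⟨W₂, hs₂, hW₂m⟩ := exists_mono_open hG₁ m ω₁ p₀ hkt
  -- descend to an open of the base
  let W : S.Opens := U.ι ''ᵁ W₂
  let h : (W : Scheme.{u}) ⟶ (U : Scheme.{u}) := (U.ι.isoImage W₂).inv ≫ W₂.ι
  have hh : h ≫ U.ι = W.ι := by
    simp only [h, Category.assoc, W, ← Scheme.Hom.isoImage_hom_ι, Iso.inv_hom_id_assoc]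
  have hsW : s ∈ W := ⟨ω₁ p₀, hs₂, by rw [← hωp, ← hω₁]; rfl⟩
  haveI : Mono ((Over.pullback h).map m).left :=
    MultHomLocus.of_comp m (MorphismProperty.monomorphisms Scheme.{u}) W₂.ι (U.ι.isoImage W₂).inv h rfl hW₂m
  haveI : Mono ((Over.pullback h).map m) := Over.mono_of_mono_left _
  obtain ⟨c₂, hc₂, hnat₂⟩ := CentralEq.exists_bc_DS h
  haveI := hc₂ L
  haveI := hc₂ M
  haveI : IsMonHom (c₂ L).inv := inferInstance
  let α := GrpBC.bcCongr U.ι h W.ι hh
  obtain ⟨hα₁, -⟩ := GrpBC.isMonHom_app α G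
  obtain ⟨-, hα₂⟩ := GrpBC.isMonHom_app α (Red.DS S M)
  let aG : Red.bc h (Red.bc U.ι G) ⟶ Red.bc W.ι G := (α.app G).hom
  let aM : Red.bc W.ι (Red.DS S M) ⟶ Red.bc h (Red.bc U.ι (Red.DS S M)) := (α.app (Red.DS S M)).inv
  haveI : IsIso aG := inferInstanceAs (IsIso (α.app G).hom)
  haveI : IsIso aM := inferInstanceAs (IsIso (α.app (Red.DS S M)).inv)
  haveI : IsMonHom aG := hα₁
  haveI : IsMonHom aM := hα₂
  let j : Red.DS (W : Scheme.{u}) L ⟶ Red.bc W.ι G := (c₂ L).inv ≫ (Over.pullback h).map m ≫ aG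
  let p : Red.bc W.ι (Red.DS S M) ⟶ Red.DS (W : Scheme.{u}) L :=
    (aM ≫ (Over.pullback h).map (c₁ M).hom ≫ (c₂ M).hom) ≫ Red.DSmap (W : Scheme.{u}) L.subtype
  haveI : IsMonHom j := inferInstance
  haveI : IsMonHom p := inferInstance
  haveI : IsAffineHom (Red.bc W.ι G).hom := MorphismProperty.pullback_snd (P := @IsAffineHom) _ _ inferInstance
  refine ⟨W, L, j, p, hsW, inferInstance,
    MTTransporterSub.isClosedImmersion_of_mono (locallyFpqc_DS _ _) j, inferInstance, ?_, ?_⟩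
  · haveI : IsIso (aM ≫ (Over.pullback h).map (c₁ M).hom ≫ (c₂ M).hom) := inferInstance
    haveI : IsIso (aM ≫ (Over.pullback h).map (c₁ M).hom ≫ (c₂ M).hom).left := by
      show IsIso ((Over.forget (W : Scheme.{u})).map (aM ≫ (Over.pullback h).map (c₁ M).hom ≫ (c₂ M).hom))
      infer_instance
    rw [Over.comp_left]
    exact (hasCovLift_of _ _ _).comp (hasCovLift_DSmap L.subtype_injective)
  · have h1 : (c₂ M).hom ≫ Red.DSmap (W : Scheme.{u}) L.subtype =
        (Over.pullback h).map (Red.DSmap (U : Scheme.{u}) L.subtype) ≫ (c₂ L).hom := (hnat₂ _ _ _).symm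
    simp only [p, j, Category.assoc]
    rw [reassoc_of% h1, Iso.hom_inv_id_assoc, ← Functor.map_comp_assoc, ← Functor.map_comp_assoc,
      Category.assoc (c₁ M).hom, hmu, Iso.hom_inv_id_assoc]
    exact (α.app (Red.DS S M)).inv_comp_eq.mpr (α.hom.naturality u)

end Groth.Agent.Cochar26
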