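import Groth.Agent.Cochar26.Rank
import Groth.Agent.Cochar26.SplitData

/-! The rank of a locally split torus. -/

set_option autoImplicit false
set_option backward.isDefEq.respectTransparency.types false
set_option linter.style.haveILetI false

universe u

open CategoryTheory CategoryTheory.Limits MonoidalCategory CartesianMonoidalCategory MonObj AlgebraicGeometry

noncomputable section

namespace Groth.Agent.Cochar26

open SGA3cLib

variable {S : Scheme.{u}}

/-- Split of rank `r` near a point. -/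
def HasRank (E : Over S) [GrpObj E] (r : ℕ) (s : S) : Prop :=
  ∃ U : S.Opens, s ∈ U ∧ Red.IsSplitTorusWith (Fin r → ℤ) (Red.bc U.ι E)

theorem hasRank_DS (r : ℕ) (s : S) : HasRank (Red.DS S (Fin r → ℤ)) r s := by
  obtain ⟨c, hc, -⟩ := CentralEq.exists_bc_DS (⊤ : S.Opens).ι
  haveI := hc (Fin r → ℤ)
  exact ⟨⊤, trivial, ⟨Grp.mkIso' (c _)⟩⟩

variable {E F : Over S} [GrpObj E] [GrpObj F]

/-- Over an open with both sources split, a monomorphism is one of split tori. -/
theorem exists_restrict_mono {a b : ℕ} (g : E ⟶ F) [IsMonHom g] [Mono g] {U : S.Opens}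
    (hE : Red.IsSplitTorusWith (Fin a → ℤ) (Red.bc U.ι E)) (hF : Red.IsSplitTorusWith (Fin b → ℤ) (Red.bc U.ι F)) :
    ∃ (i : Red.bc U.ι E ≅ Red.DS (U : Scheme.{u}) (Fin a → ℤ)) (k : Red.bc U.ι F ≅ Red.DS (U : Scheme.{u}) (Fin b → ℤ))
      (m : Red.DS (U : Scheme.{u}) (Fin a → ℤ) ⟶ Red.DS (U : Scheme.{u}) (Fin b → ℤ)),
        IsMonHom m ∧ Mono m ∧ (Over.pullback U.ι).map g = i.hom ≫ m ≫ k.inv := by
  obtain ⟨i₀⟩ := hE
  obtain ⟨k₀⟩ := hF
  let i : Red.bc U.ι E ≅ Red.DS (U : Scheme.{u}) (Fin a → ℤ) := (Grp.forget _).mapIso i₀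
  let k : Red.bc U.ι F ≅ Red.DS (U : Scheme.{u}) (Fin b → ℤ) := (Grp.forget _).mapIso k₀
  haveI : IsMonHom i.inv := i₀.inv.hom.isMonHom_hom
  haveI : IsMonHom k.hom := k₀.hom.hom.isMonHom_hom
  haveI : Mono ((Over.pullback U.ι).map g) := Functor.map_mono _ _
  exact ⟨i, k, i.inv ≫ (Over.pullback U.ι).map g ≫ k.hom, inferInstance, inferInstance, by simp⟩

theorem exists_common {a b : ℕ} {s : S} (hE : HasRank E a s) (hF : HasRank F b s) :
    ∃ U : S.Opens, s ∈ U ∧ Red.IsSplitTorusWith (Fin a → ℤ) (Red.bc U.ι E) ∧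
      Red.IsSplitTorusWith (Fin b → ℤ) (Red.bc U.ι F) := by
  obtain ⟨U, hU, ⟨e⟩⟩ := hE
  obtain ⟨V, hV, ⟨f⟩⟩ := hF
  exact ⟨U ⊓ V, ⟨hU, hV⟩, exists_iso_of_le inf_le_left e, exists_iso_of_le inf_le_right f⟩

theorem HasRank.le_of_mono {a b : ℕ} {s : S} (g : E ⟶ F) [IsMonHom g] [Mono g] (hE : HasRank E a s)
    (hF : HasRank F b s) : a ≤ b := by
  obtain ⟨U, hs, hE', hF'⟩ := exists_common hE hF
  obtain ⟨-, -, m, hm, hmm, -⟩ := exists_restrict_mono g hE' hF'
  haveI := hm
  haveI := hmm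
  haveI : Nonempty (U : Scheme.{u}) := ⟨⟨s, hs⟩⟩
  exact rank_le_of_mono m

/-- A locally split torus over a connected base has constant rank. -/
theorem HasRank.all [ConnectedSpace S]
    (hE : ∀ s : S, ∃ U : S.Opens, s ∈ U ∧ ∃ r : ℕ, Red.IsSplitTorusWith (Fin r → ℤ) (Red.bc U.ι E))
    {r : ℕ} {s₀ : S} (h : HasRank E r s₀) (s : S) : HasRank E r s := by
  have hopen : ∀ a, IsOpen {x : S | HasRank E a x} := fun a => by
    refine isOpen_iff_forall_mem_open.mpr fun x hx => ?_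
    obtain ⟨U, hU, e⟩ := hx
    exact ⟨U, fun y hy => ⟨U, hy, e⟩, U.2, hU⟩
  have hclosed : IsClosed {x : S | HasRank E r x} := by
    rw [← isOpen_compl_iff, isOpen_iff_forall_mem_open]
    intro x hx
    obtain ⟨U, hU, a, e⟩ := hE x
    have hne : a ≠ r := fun h => hx (show HasRank E r x from h ▸ ⟨U, hU, e⟩)
    refine ⟨{x | HasRank E a x}, fun y hy hy' => hne ?_, hopen a, U, hU, e⟩
    haveI : IsMonHom (𝟙 E) := inferInstance
    exact le_antisymm (HasRank.le_of_mono (𝟙 E) hy hy') (HasRank.le_of_mono (𝟙 E) hy' hy)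
  have := IsClopen.eq_univ ⟨hclosed, hopen r⟩ ⟨s₀, h⟩
  exact this.symm.subset (Set.mem_univ s)

/-- A monomorphism of locally split tori of the same rank everywhere is an isomorphism. -/
theorem isIso_of_mono_rank {r : ℕ} (g : E ⟶ F) [IsMonHom g] [Mono g] (hE : ∀ s, HasRank E r s)
    (hF : ∀ s, HasRank F r s) : IsIso g := by
  choose U hU hUE hUF using fun s => exists_common (hE s) (hF s)
  have hiso : ∀ s, IsIso ((Over.pullback (U s).ι).map g).left := fun s => by
    obtain ⟨i, k, m, hm, hmm, h⟩ := exists_restrict_mono g (hUE s) (hUF s)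
    haveI := hm
    haveI := hmm
    haveI := isIso_of_mono m
    haveI : IsIso ((Over.pullback (U s).ι).map g) := by rw [h]; infer_instance
    exact inferInstanceAs (IsIso ((Over.forget _).map ((Over.pullback (U s).ι).map g)))
  haveI : IsIso g.left := by
    refine IsZariskiLocalAtTarget.of_openCover (P := MorphismProperty.isomorphisms Scheme.{u})
      ((S.openCoverOfIsOpenCover U (TopologicalSpace.IsOpenCover.mk
        (eq_top_iff.2 fun x _ => TopologicalSpace.Opens.mem_iSup.2 ⟨x, hU x⟩))).pullback₁ F.hom) fun s => ?_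
    have h := MultHomLocus.isPullback_map g (U s).ι
    haveI := hiso s
    show MorphismProperty.isomorphisms Scheme.{u} (pullback.snd g.left (pullback.fst F.hom (U s).ι))
    rw [← h.isoPullback_inv_snd]
    refine show IsIso _ from ?_
    infer_instance
  haveI : IsIso ((Over.forget S).map g) := ‹IsIso g.left›
  exact isIso_of_reflects_iso g (Over.forget S)

/-- Ranks of split subgroups are bounded at each point. -/
theorem exists_rank_bound {G : Over S} [GrpObj G] (hG : SGA3x.IsMultTypeFT G) (s₀ : S) :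
    ∃ r₀, ∀ r, (∃ (E : Over S) (_ : GrpObj E) (j : E ⟶ G), IsMonHom j ∧ Mono j ∧
      (∀ s : ↥S, ∃ U : S.Opens, s ∈ U ∧ ∃ r : ℕ, Red.IsSplitTorusWith (Fin r → ℤ) (Red.bc U.ι E)) ∧
      HasRank E r s₀) → r ≤ r₀ := by
  let ω := S.fromSpecResidueField s₀
  obtain ⟨r₀, j₀, hj₀, hj₀m, hu⟩ := exists_greatest (SGA3cLib.CentralDescent.isMultTypeFT_bc ω G hG)
  refine ⟨r₀, ?_⟩
  rintro r ⟨E, _, j, hj, hjm, -, U, hU, ⟨e⟩⟩
  haveI := hj
  haveI := hjm
  have hr : Set.range ω ⊆ Set.range U.ι := by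
    rw [Scheme.Opens.range_ι, Scheme.range_fromSpecResidueField]
    exact Set.singleton_subset_iff.mpr hU
  obtain ⟨i, hi, hi'⟩ := GrpBC.nonempty_iso_restrict U.ι (IsOpenImmersion.lift U.ι ω hr) ω
    (IsOpenImmersion.lift_fac _ _ _) E e
  haveI := hi'
  haveI : Mono ((Over.pullback ω).map j) := Functor.map_mono _ _
  obtain ⟨g, hgm, hg⟩ := hu r (i.inv ≫ (Over.pullback ω).map j)
  haveI := hgm
  haveI : Mono (g ≫ j₀) := by rw [hg]; infer_instance
  haveI : Mono g := mono_of_mono g j₀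
  exact rank_le_of_mono g

end Groth.Agent.Cochar26
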