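import Groth.Agent.Cochar26.Lattice
import Groth.Agent.MultExt26.Scheme
import Groth.Agent.MultExt26.GmBase
import Groth.Agent.EGA43.GeomIntegral.Dvr

/-! Homomorphisms from split tori over an open of a normal base extend and factor through the greatest split subtorus. -/

set_option autoImplicit false
set_option backward.isDefEq.respectTransparency.types false
set_option linter.style.haveILetI false

universe u

open CategoryTheory CategoryTheory.Limits MonoidalCategory CartesianMonoidalCategory MonObj AlgebraicGeometry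

noncomputable section

namespace Groth.Agent.Cochar26

open SGA3cLib

variable {S : Scheme.{u}}

/-- Any homomorphism from a split torus factors through a greatest split subtorus. -/
theorem factor_of_max [ConnectedSpace S] {T T₀ : Over S} [GrpObj T] [GrpObj T₀] (hT : SGA3x.IsMultTypeFT T)
    (j₀ : T₀ ⟶ T) [IsMonHom j₀] [Mono j₀]
    (hmax : ∀ (T' : Over S) [GrpObj T'] (j' : T' ⟶ T) [IsMonHom j'] [Mono j'] (r' : ℕ),
      Red.IsSplitTorusWith (Fin r' → ℤ) T' → ∃ g : T' ⟶ T₀, g ≫ j₀ = j')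
    (r' : ℕ) (h : Red.DS S (Fin r' → ℤ) ⟶ T) [IsMonHom h] : ∃ g : Red.DS S (Fin r' → ℤ) ⟶ T₀, g ≫ j₀ = h := by
  obtain ⟨r, j, hj, hjm, hu⟩ := exists_greatest hT
  haveI := hj
  haveI := hjm
  obtain ⟨g, -, hg⟩ := hu r' h
  obtain ⟨g₀, hg₀⟩ := hmax (Red.DS S (Fin r → ℤ)) j r ⟨Iso.refl _⟩
  exact ⟨g ≫ g₀, by rw [Category.assoc, hg₀, hg]⟩

/-- A homomorphism from the multiplicative group over a nonempty open of a normal integral base extends. -/
theorem exists_extend_open [IsIntegral S] [IsLocallyNoetherian S]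
    (hnorm : ∀ x : S, IsIntegrallyClosed (S.presheaf.stalk x)) (T : Over S) [GrpObj T] (hT : SGA3x.IsMultTypeFT T)
    (U : S.Opens) [Nonempty U] (l : Red.bc U.ι (Red.Gm S) ⟶ Red.bc U.ι T) [IsMonHom l] :
    ∃ L : Red.Gm S ⟶ T, IsMonHom L ∧ (Over.pullback U.ι).map L = l := by
  haveI := MultExt26.smooth_gmBase S
  haveI := IsoTriv.SchemeBridge.isAffineHom_of_multTypeFT T hT
  have hηU : genericPoint S ∈ U := (genericPoint_spec S).mem_open_set_iff U.2 |>.mpr (by
    obtain ⟨x⟩ := ‹Nonempty U›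
    exact ⟨x.1, trivial, x.2⟩)
  let g := S.fromSpecStalk (genericPoint S)
  have hr : Set.range g ⊆ Set.range U.ι := by
    rw [Scheme.Opens.range_ι, Scheme.range_fromSpecStalk]
    exact fun y hy => hy.mem_open U.2 hηU
  let e : Spec (CommRingCat.of S.functionField) ⟶ (U : Scheme.{u}) := IsOpenImmersion.lift U.ι g hr
  have he : e ≫ U.ι = g := IsOpenImmersion.lift_fac _ _ _
  let α := GrpBC.bcCongr U.ι e g he
  obtain ⟨hG₁, hG₂⟩ := GrpBC.isMonHom_app α (Red.Gm S)
  obtain ⟨hT₁, hT₂⟩ := GrpBC.isMonHom_app α T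
  let a₁ : Red.bc g (Red.Gm S) ⟶ Red.bc e (Red.bc U.ι (Red.Gm S)) := (α.app (Red.Gm S)).inv
  let a₂ : Red.bc e (Red.bc U.ι T) ⟶ Red.bc g T := (α.app T).hom
  haveI : IsMonHom a₁ := hG₂
  haveI : IsMonHom a₂ := hT₁
  let lη : Red.bc g (Red.Gm S) ⟶ Red.bc g T := a₁ ≫ (Over.pullback e).map l ≫ a₂
  haveI : IsMonHom lη := inferInstance
  obtain ⟨L, hL, hLη⟩ := MultExt26.exists_extension hnorm (Red.Gm S) T
    (fun s => MultExt26.connectedSpace_gm_fibre S (L := S.residueField s) (S.fromSpecResidueField s)) hT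
    g (𝟙 _) (𝟙 _) (Category.id_comp _) (Category.id_comp _) (Category.id_comp _) lη
  refine ⟨L, hL, ?_⟩
  haveI : Smooth (Red.bc U.ι (Red.Gm S)).hom := inferInstanceAs (Smooth (pullback.snd (Red.Gm S).hom U.ι))
  haveI : IsSeparated (Red.bc U.ι T).hom := inferInstanceAs (IsSeparated (pullback.snd T.hom U.ι))
  haveI : IsIntegral (U : Scheme.{u}) := isIntegral_of_isOpenImmersion U.ι
  refine MultExt26.ext_generic e ?_ _ _ ?_
  · refine ⟨IsLocalRing.closedPoint _, U.ι.isOpenEmbedding.injective ?_⟩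
    rw [genericPoint_eq_of_isOpenImmersion U.ι, ← Scheme.Hom.comp_apply, he]
    exact Scheme.fromSpecStalk_closedPoint
  · have hnat : (Over.pullback e).map ((Over.pullback U.ι).map L) ≫ (α.app T).hom =
        (α.app (Red.Gm S)).hom ≫ (Over.pullback g).map L := α.hom.naturality L
    rw [← cancel_mono (α.app T).hom, hnat, hLη]
    simp [lη, a₁, a₂]

/-- Homomorphisms from split tori over an open of a normal connected base factor through the restriction of the
greatest split subtorus. -/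
theorem factor_of_open [ConnectedSpace S] [IsLocallyNoetherian S]
    (hnorm : ∀ x : ↥S, IsDomain (S.presheaf.stalk x) ∧ IsIntegrallyClosed (S.presheaf.stalk x))
    {T T₀ : Over S} [GrpObj T] [GrpObj T₀] (hT : SGA3x.IsMultTypeFT T) (j₀ : T₀ ⟶ T) [IsMonHom j₀] [Mono j₀]
    (hmax : ∀ (T' : Over S) [GrpObj T'] (j' : T' ⟶ T) [IsMonHom j'] [Mono j'] (r' : ℕ),
      Red.IsSplitTorusWith (Fin r' → ℤ) T' → ∃ g : T' ⟶ T₀, g ≫ j₀ = j')
    (U : S.Opens) (T' : Over (U : Scheme.{u})) [GrpObj T'] (j' : T' ⟶ Red.bc U.ι T) [IsMonHom j']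
    (r' : ℕ) (hT' : Red.IsSplitTorusWith (Fin r' → ℤ) T') :
    ∃ g : T' ⟶ Red.bc U.ι T₀, g ≫ (Over.pullback U.ι).map j₀ = j' := by
  classical
  obtain ⟨e'⟩ := hT'
  let e : T' ≅ Red.DS (U : Scheme.{u}) (Fin r' → ℤ) := (Grp.forget _).mapIso e'
  haveI : IsMonHom e.inv := e'.inv.hom.isMonHom_hom
  rcases isEmpty_or_nonempty U with hU | hU
  · have hE : IsEmpty T'.left := ⟨fun x => hU.false (T'.hom x)⟩
    exact ⟨Over.homMk ((isInitialOfIsEmpty (X := T'.left)).to _) ((isInitialOfIsEmpty (X := T'.left)).hom_ext _ _),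
      HomDS.eq_of_isEmpty hE _ _⟩
  haveI : IsIntegral S := EGA43.GeomIntegral.isIntegral_of_isDomain_stalk fun x => (hnorm x).1
  obtain ⟨c, hc, hnat⟩ := CentralEq.exists_bc_DS U.ι
  haveI := hc (Fin r' → ℤ)
  haveI := hc ℤ
  let h : Red.bc U.ι (Red.DS S (Fin r' → ℤ)) ⟶ Red.bc U.ι T := (c _).hom ≫ e.inv ≫ j'
  haveI : IsMonHom h := inferInstance
  let ev : Fin r' → ((Fin r' → ℤ) →+ ℤ) := fun k => Pi.evalAddMonoidHom (fun _ : Fin r' => ℤ) k
  have hex : ∀ k, ∃ L : Red.Gm S ⟶ T, IsMonHom L ∧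
      (Over.pullback U.ι).map L = (Over.pullback U.ι).map (Red.DSmap S (ev k)) ≫ h := fun k =>
    exists_extend_open (fun x => (hnorm x).2) T hT U _
  choose L hL hLU using hex
  haveI := hL
  obtain ⟨F⟩ := exists_fibreChar hT
  have hcT := fun X a b => IsoTriv.mul_comm_of_multTypeFT hT (X := X) a b
  obtain ⟨H, hH, hΦ⟩ := exists_sum F hcT Finset.univ (fun k => Red.DSmap S (sgl k) ≫ L k)
  haveI := hH
  have hcomp : ∀ k, Red.DSmap S (ev k) ≫ H = L k := fun k => by
    refine eq_of_Φ_eq F hcT ?_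
    rw [F.comp, hΦ]
    ext n
    simp only [AddMonoidHom.comp_apply, AddMonoidHom.finsetSum_apply, F.comp, sgl, ev, Pi.evalAddMonoidHom_apply,
      Finset.sum_apply, AddMonoidHom.single_apply]
    simp
  obtain ⟨g, hg⟩ := factor_of_max hT j₀ hmax r' H
  -- the two homomorphisms over `U` agree on each coordinate
  haveI : ConnectedSpace (U : Scheme.{u}) := by
    haveI : IsIntegral (U : Scheme.{u}) := isIntegral_of_isOpenImmersion U.ι
    infer_instance
  have hTU := SGA3cLib.CentralDescent.isMultTypeFT_bc U.ι T hT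
  obtain ⟨FU⟩ := exists_fibreChar hTU
  have hcU := fun X a b => IsoTriv.mul_comm_of_multTypeFT hTU (X := X) a b
  let a : Red.DS (U : Scheme.{u}) (Fin r' → ℤ) ⟶ Red.bc U.ι T := (c _).inv ≫ (Over.pullback U.ι).map H
  let b : Red.DS (U : Scheme.{u}) (Fin r' → ℤ) ⟶ Red.bc U.ι T := e.inv ≫ j'
  haveI : IsMonHom a := inferInstance
  haveI : IsMonHom b := inferInstance
  have hab : a = b := by
    refine eq_of_Φ_eq FU hcU ?_
    have hk : ∀ k, FU.Φ (Red.DSmap _ (ev k) ≫ a) = FU.Φ (Red.DSmap _ (ev k) ≫ b) := fun k => Φ_congr FU (by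
      rw [← cancel_epi (c ℤ).hom]
      simp only [← Category.assoc, ← hnat ℤ (Fin r' → ℤ) (ev k)]
      simp only [a, b, Category.assoc, Iso.hom_inv_id_assoc]
      rw [← Functor.map_comp, hcomp, hLU])
    ext n k
    have h1 := DFunLike.congr_fun (hk k) n
    simpa [FU.comp, ev] using h1
  refine ⟨e.hom ≫ (c _).inv ≫ (Over.pullback U.ι).map g, ?_⟩
  rw [Category.assoc, Category.assoc, ← Functor.map_comp, hg, show (c _).inv ≫ (Over.pullback U.ι).map H = e.inv ≫ j' from hab,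
    Iso.hom_inv_id_assoc]

end Groth.Agent.Cochar26
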