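import Groth.Agent.Cochar26.FibreChar
import Groth.Agent.SGA3cLib.NearOpen
import Mathlib.LinearAlgebra.Dimension.StrongRankCondition

/-! Ranks of split tori under monomorphisms. -/

set_option autoImplicit false
set_option backward.isDefEq.respectTransparency.types false
set_option linter.style.haveILetI false

universe u

open CategoryTheory CategoryTheory.Limits MonoidalCategory CartesianMonoidalCategory MonObj AlgebraicGeometry

noncomputable section

namespace Groth.Agent.Cochar26

open SGA3cLib

variable {S : Scheme.{u}} {a b : ℕ}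

/-- A monomorphism of split tori is, at every point, given by a surjection of character groups. -/
theorem exists_surjective_at (g : Red.DS S (Fin a → ℤ) ⟶ Red.DS S (Fin b → ℤ)) [IsMonHom g] [Mono g] (s : S) :
    ∃ φ : (Fin b → ℤ) →+ (Fin a → ℤ), Function.Surjective φ ∧ (Function.Bijective φ →
      IsIso ((Over.pullback (S.fromSpecResidueField s)).map g).left) := by
  let ω := S.fromSpecResidueField s
  let T := Spec (S.residueField s)
  obtain ⟨c, hc, -⟩ := CentralEq.exists_bc_DS ω
  haveI := hc (Fin a → ℤ)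
  haveI := hc (Fin b → ℤ)
  haveI : IsMonHom (c (Fin a → ℤ)).inv := inferInstance
  let v : Red.DS T (Fin a → ℤ) ⟶ Red.DS T (Fin b → ℤ) :=
    (c _).inv ≫ (Over.pullback ω).map g ≫ (c _).hom
  haveI : IsMonHom v := inferInstance
  let pt₀ : T := IsLocalRing.closedPoint (S.residueField s)
  obtain ⟨V, φ, hxV, hV⟩ := DSHom.exists_eq_DSmap v pt₀
  have hv : v = Red.DSmap T φ := by
    have h2 := hV (Red.DS T (Fin a → ℤ)) (fun y _ => by
      haveI : Subsingleton ↥T := inferInstanceAs (Subsingleton (PrimeSpectrum (S.residueField s)))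
      rwa [Subsingleton.elim y pt₀]) (𝟙 _)
    simpa using h2
  haveI : Mono ((Over.pullback ω).map g) := Functor.map_mono _ _
  haveI : Mono v := inferInstance
  haveI : Mono (Red.DSmap T φ) := hv ▸ inferInstance
  refine ⟨φ, MultHomLocus.surjective_of_mono φ (K := S.residueField s) (𝟙 T) inferInstance, fun hb => ?_⟩
  haveI := MultHomLocus.isIso_of_bijective φ hb T
  haveI : IsIso (Red.DSmap T φ) := by
    haveI : IsIso ((Over.forget T).map (Red.DSmap T φ)) := inferInstanceAs (IsIso (Red.DSmap T φ).left)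
    exact isIso_of_reflects_iso _ (Over.forget T)
  haveI : IsIso v := hv ▸ inferInstance
  have h : (Over.pullback ω).map g = (c _).hom ≫ v ≫ (c _).inv := by simp [v]
  show IsIso ((Over.forget T).map ((Over.pullback ω).map g))
  rw [h]
  infer_instance

theorem rank_le_of_mono [Nonempty S] (g : Red.DS S (Fin a → ℤ) ⟶ Red.DS S (Fin b → ℤ)) [IsMonHom g] [Mono g] :
    a ≤ b := by
  obtain ⟨s⟩ := ‹Nonempty S›
  obtain ⟨φ, hφ, -⟩ := exists_surjective_at g s
  have h := LinearMap.finrank_range_le φ.toIntLinearMap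
  rw [LinearMap.range_eq_top.mpr (show Function.Surjective φ.toIntLinearMap from hφ), finrank_top] at h
  simpa using h

theorem isIso_of_mono (g : Red.DS S (Fin a → ℤ) ⟶ Red.DS S (Fin a → ℤ)) [IsMonHom g] [Mono g] : IsIso g := by
  obtain ⟨W, -, hW, hWi⟩ := MultHomLocus.exists_clopen (MorphismProperty.isomorphisms Scheme.{u})
    (fun M N _ _ φ => Function.Bijective φ) (fun M N _ _ φ hφ U => MultHomLocus.isIso_of_bijective φ hφ U)
    (fun M N _ _ φ U K _ k hk => MultHomLocus.bijective_of_isIso φ k hk)
    (Red.DS S (Fin a → ℤ)) (Red.DS S (Fin a → ℤ)) (locallyFpqc_DS S _) (isMultTypeFT_DS S _) g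
  have hall : ∀ s : S, s ∈ W := fun s => (hW s).mpr (by
    obtain ⟨φ, hφ, h⟩ := exists_surjective_at g s
    refine h ⟨?_, hφ⟩
    exact (OrzechProperty.injective_of_surjective_endomorphism φ.toIntLinearMap hφ :))
  haveI : Epi W.ι.base := (TopCat.epi_iff_surjective _).mpr fun x => ⟨⟨x, hall x⟩, rfl⟩
  haveI : IsIso W.ι := IsOpenImmersion.isIso W.ι
  haveI : IsIso ((Over.pullback W.ι).map g).left := hWi
  have h2 : ((Over.pullback W.ι).map g).left ≫ pullback.fst _ W.ι = pullback.fst _ W.ι ≫ g.left :=
    pullback.lift_fst _ _ _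
  haveI : IsIso g.left := by
    rw [show g.left = inv (pullback.fst (Red.DS S (Fin a → ℤ)).hom W.ι) ≫
      ((Over.pullback W.ι).map g).left ≫ pullback.fst _ W.ι by rw [h2, IsIso.inv_hom_id_assoc]]
    infer_instance
  haveI : IsIso ((Over.forget S).map g) := ‹IsIso g.left›
  exact isIso_of_reflects_iso g (Over.forget S)

end Groth.Agent.Cochar26
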